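import Groth.Agent.EtGlueLib.Alg
import Groth.Agent.AlgSpLib.CoverDesc
import Groth.Agent.AlgSpLib.ZarLocal
import Groth.Agent.AlgSpLib.DiagProp
import Groth.Agent.AlgSpLib.QCompact
import Groth.Agent.AlgSpLib.Points
import Groth.Agent.QA.Props
import Mathlib.RingTheory.Flat.EquationalCriterion
import Groth.Prelude.Def_EtGlue

/-!
# Spaces glueable along a glueing pair
-/

set_option autoImplicit false
set_option linter.style.haveILetI false

universe u

open CategoryTheory CategoryTheory.Limits AlgebraicGeometry TensorProduct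

set_option backward.isDefEq.respectTransparency false

namespace Groth.Agent.EtGlueSp

open _root_.AlgSp Groth.Agent.AlgSpLib EtGlue

variable {R : Type u} [CommRing R]

/-- the spectrum of an algebra as an object over the base -/
noncomputable abbrev SA (A : Type u) [CommRing A] [Algebra R A] : Over (Spec (CommRingCat.of R)) :=
  Over.mk (Spec.map (CommRingCat.ofHom (algebraMap R A)))

theorem exists_spec_iso (O : Over (Spec (CommRingCat.of R))) [IsAffine O.left] :
    ∃ (B : Type u) (_ : CommRing B) (_ : Algebra R B), Nonempty (SA (R := R) B ≅ O) := by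
  obtain ⟨ρ, hρ⟩ := Spec.map_surjective (O.left.isoSpec.inv ≫ O.hom)
  letI : Algebra R Γ(O.left, ⊤) := ρ.hom.toAlgebra
  exact ⟨Γ(O.left, ⊤), inferInstance, ρ.hom.toAlgebra, ⟨Over.isoMk O.left.isoSpec.symm hρ.symm⟩⟩

theorem exists_algHom_of_hom {A B : Type u} [CommRing A] [CommRing B] [Algebra R A] [Algebra R B]
    (h : SA (R := R) B ⟶ SA A) :
    ∃ φ : A →ₐ[R] B, h.left = Spec.map (CommRingCat.ofHom φ.toRingHom) := by
  obtain ⟨ψ, hψ⟩ := Spec.map_surjective (R := CommRingCat.of A) (S := CommRingCat.of B) h.left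
  have hw : CommRingCat.ofHom (algebraMap R A) ≫ ψ = CommRingCat.ofHom (algebraMap R B) := by
    refine Spec.map_injective ?_
    rw [Spec.map_comp, hψ]
    exact Over.w h
  exact ⟨{ ψ.hom with commutes' := fun r => congrArg (fun g => g.hom r) hw }, hψ.symm⟩

theorem flat_of_etale_hom {A B : Type u} [CommRing A] [CommRing B] [Algebra R A] [Algebra R B]
    {h : SA (R := R) B ⟶ SA A} (he : Etale h.left) (φ : A →ₐ[R] B)
    (hφ : h.left = Spec.map (CommRingCat.ofHom φ.toRingHom)) : φ.toRingHom.Flat := by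
  have h1 : Flat h.left := by
    have := he
    infer_instance
  rw [hφ] at h1
  exact (HasRingHomProperty.Spec_iff (P := @Flat) (φ := CommRingCat.ofHom φ.toRingHom)).1 h1

variable {R' : Type u} [CommRing R'] [Algebra R R'] {f : R}

/-- glueability passes to flat algebras -/
theorem isGlueable_of_flat (h : IsGlueingPair R R' f) {A B : Type u} [CommRing A] [CommRing B] [Algebra R A]
    [Algebra R B] [Algebra A B] [IsScalarTower R A B] [Module.Flat A B] (hA : IsGlueable R R' f A) :
    IsGlueable R R' f B := by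
  have hAinj := (EtGlueLib.isGlueable_iff_of_pair h A).1 hA
  refine (EtGlueLib.isGlueable_iff_of_pair h B).2 fun m ⟨n, hn⟩ hm => ?_
  let μ : A →ₗ[A] A := LinearMap.mulLeft A (algebraMap R A f ^ n)
  let K := LinearMap.ker μ
  have hk : ∀ k : K, f ^ n • (k : A) = 0 := fun k => by
    rw [Algebra.smul_def, map_pow]
    exact k.2
  let L : K →ₗ[A] A ⊗[R] R' :=
    { toFun := fun k => (k : A) ⊗ₜ[R] (1 : R')
      map_add' := fun x y => TensorProduct.add_tmul _ _ _
      map_smul' := fun a x => by rw [RingHom.id_apply, smul_tmul']; rfl }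
  have hL : Function.Injective L := by
    rw [injective_iff_map_eq_zero]
    intro k hk0
    refine Subtype.ext (hAinj k ⟨n, hk k⟩ ?_)
    simpa [L] using congrArg (TensorProduct.comm R A R') hk0
  -- torsion of `B` comes from torsion of `A`
  have hex : Function.Exact (K.subtype.lTensor B) (μ.lTensor B) :=
    Module.Flat.lTensor_exact B (LinearMap.exact_subtype_ker_map μ)
  obtain ⟨z, hz⟩ := (hex (m ⊗ₜ[A] (1 : A))).1 (by
    rw [LinearMap.lTensor_tmul, show μ (1 : A) = (algebraMap R A f ^ n) • (1 : A) by simp [μ],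
      ← TensorProduct.smul_tmul, ← map_pow, algebraMap_smul, hn, TensorProduct.zero_tmul])
  let ε : B ⊗[A] K →ₗ[A] B ⊗[R] R' :=
    (AlgebraTensorModule.cancelBaseChange R A A B R').toLinearMap ∘ₗ L.lTensor B
  have hε : Function.Injective ε := fun x y e =>
    Module.Flat.lTensor_preserves_injective_linearMap (M := B) L hL
      ((AlgebraTensorModule.cancelBaseChange R A A B R').injective e)
  let ν : B ⊗[A] K →ₗ[A] B := (TensorProduct.rid A B).toLinearMap ∘ₗ K.subtype.lTensor B
  have hν : ν z = m := by simp [ν, hz]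
  have key : ∀ w, ε w = (ν w) ⊗ₜ[R] (1 : R') := fun w => by
    induction w using TensorProduct.induction_on with
    | zero => simp
    | tmul b k => simp [ε, ν, L]
    | add x y hx hy => rw [map_add, map_add, hx, hy, TensorProduct.add_tmul]
  have h0 : ε z = 0 := by
    rw [key, hν]
    simpa using congrArg (TensorProduct.comm R R' B) hm
  rw [← hν, hε (h0.trans (map_zero ε).symm), map_zero]

/-- glueability is local for flat covers of an algebra -/
theorem isGlueable_of_cover (h : IsGlueingPair R R' f) (A : Type u) [CommRing A] [Algebra R A]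
    (H : ∀ q : PrimeSpectrum A, ∃ (B : Type u) (_ : CommRing B) (_ : Algebra R B) (φ : A →ₐ[R] B),
      φ.toRingHom.Flat ∧ IsGlueable R R' f B ∧ q ∈ Set.range (PrimeSpectrum.comap φ.toRingHom)) :
    IsGlueable R R' f A := by
  refine (EtGlueLib.isGlueable_iff_of_pair h A).2 fun m ⟨n, hn⟩ hm => ?_
  by_contra hne
  let I := LinearMap.ker (LinearMap.toSpanSingleton A A m)
  have hI : I ≠ ⊤ := fun e => hne (by
    have : (1 : A) ∈ I := e ▸ trivial
    simpa [I] using this)
  obtain ⟨M, hM, hIM⟩ := Ideal.exists_le_maximal I hI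
  obtain ⟨B, _, _, φ, hfl, hB, q, hq⟩ := H ⟨M, hM.isPrime⟩
  have hφm : φ m = 0 := by
    refine (EtGlueLib.isGlueable_iff_of_pair h B).1 hB _ ⟨n, by rw [← map_smul, hn, map_zero]⟩ ?_
    simpa using congrArg (φ.toLinearMap.lTensor R') hm
  letI := φ.toRingHom.toAlgebra
  haveI : Module.Flat A B := hfl
  obtain ⟨k, a, y, hy, ha⟩ := Module.Flat.isTrivialRelation_of_sum_smul_eq_zero (R := A) (M := B)
    (ι := Fin 1) (f := fun _ => m) (x := fun _ => (1 : B)) (by
      rw [Fin.sum_univ_one, Algebra.smul_def, mul_one]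
      exact hφm)
  refine q.2.ne_top ((Ideal.eq_top_iff_one _).2 ?_)
  rw [show (1 : B) = ∑ j, a 0 j • y j from hy 0]
  refine sum_mem fun j _ => ?_
  rw [Algebra.smul_def]
  refine Ideal.mul_mem_right _ _ ?_
  have haM : a 0 j ∈ M := hIM (by
    have := ha j
    rw [Fin.sum_univ_one] at this
    show a 0 j • m = 0
    rwa [smul_eq_mul, mul_comm])
  have e : M = q.asIdeal.comap φ.toRingHom := (congrArg PrimeSpectrum.asIdeal hq).symm
  rw [e] at haM
  exact haM

/-- glueability of affine etale charts follows from a covering family -/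
theorem forall_isGlueable (h : IsGlueingPair R R' f) {Y : Sp (Spec (CommRingCat.of R))} (hY : IsAlgSpace Y)
    {ι : Type u} (B : ι → Type u) [∀ k, CommRing (B k)] [∀ k, Algebra R (B k)]
    (g : ∀ k, (yon _).obj (SA (R := R) (B k)) ⟶ Y) (hg : ∀ k, RepWith @Etale (g k))
    (hcov : ∀ y : Points Y, ∃ k, y ∈ Set.range (Points.map (g k))) (hB : ∀ k, IsGlueable R R' f (B k))
    (A : Type u) [CommRing A] [Algebra R A] (a : (yon _).obj (SA (R := R) A) ⟶ Y) (ha : RepWith @Etale a) :
    IsGlueable R R' f A := by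
  refine isGlueable_of_cover h A fun q => ?_
  obtain ⟨k, y, hy⟩ := hcov (Points.ofPt a (q : (SA (R := R) A).left))
  obtain ⟨τ, rfl⟩ := (Points.schemeEquiv _).surjective y
  obtain ⟨W, p₁, p₂, sq⟩ := exists_pullback hY.diag a (g k)
  obtain ⟨w, hw, -⟩ := (ofPt_eq_iff sq (q : (SA (R := R) A).left) τ).1 (by
    rw [← hy, Points.ofPt_eq_map_ofScheme (g k) τ]
    rfl)
  have hp₁ : Etale p₁.left := (repWith_yon_iff p₁).1 (repWith_baseChange sq.flip (hg k))
  have hp₂ : Etale p₂.left := (repWith_yon_iff p₂).1 (repWith_baseChange sq ha)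
  obtain ⟨O, hO, hwO, -⟩ := exists_isAffineOpen_mem_and_subset (U := (⊤ : W.left.Opens)) (x := w) trivial
  have : IsAffine (Over.mk (O.ι ≫ W.hom)).left := (hO : IsAffine O.toScheme)
  obtain ⟨C, _, _, ⟨θ⟩⟩ := exists_spec_iso (Over.mk (O.ι ≫ W.hom))
  let i : SA (R := R) C ⟶ W := θ.hom ≫ Over.homMk O.ι rfl
  have : IsOpenImmersion i.left := by
    show IsOpenImmersion (θ.hom.left ≫ O.ι)
    infer_instance
  obtain ⟨φ, hφ⟩ := exists_algHom_of_hom (i ≫ p₁)
  obtain ⟨ψ, hψ⟩ := exists_algHom_of_hom (i ≫ p₂)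
  have hflat : ψ.toRingHom.Flat := flat_of_etale_hom (show Etale (i.left ≫ p₂.left) from inferInstance) ψ hψ
  refine ⟨C, _, _, φ, flat_of_etale_hom (show Etale (i.left ≫ p₁.left) from inferInstance) φ hφ, ?_, ?_⟩
  · letI := ψ.toRingHom.toAlgebra
    haveI : IsScalarTower R (B k) C := IsScalarTower.of_algebraMap_eq fun r => (ψ.commutes r).symm
    haveI : Module.Flat (B k) C := hflat
    exact isGlueable_of_flat h (A := B k) (hB k)
  · obtain ⟨c, hc⟩ : (⟨w, hwO⟩ : O.toScheme) ∈ Set.range θ.hom.left := by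
      exact θ.hom.left.homeomorph.surjective _
    refine ⟨c, ?_⟩
    have h1 : (i ≫ p₁).left c = q := by
      rw [← hw]
      show p₁.left (O.ι (θ.hom.left c)) = _
      rw [hc]
      rfl
    rw [hφ] at h1
    exact h1

/-- maps out of a space are determined on affine etale charts -/
theorem hom_ext_affine {Y Z : Sp (Spec (CommRingCat.of R))} (hY : IsAlgSpace Y) {a b : Y ⟶ Z}
    (H : ∀ (A : Type u) [CommRing A] [Algebra R A] (g : (yon _).obj (SA (R := R) A) ⟶ Y), RepWith @Etale g →
      g ≫ a = g ≫ b) : a = b := by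
  obtain ⟨U, p, ι, Z', hp, hps, hZ, -, hcov⟩ := exists_affine_chart_family hY
  let c : ∀ i, (yon _).obj (Over.mk ((Z' i).ι ≫ U.hom)) ⟶ Y := fun i =>
    (yon _).map (Over.homMk (Z' i).ι rfl : Over.mk ((Z' i).ι ≫ U.hom) ⟶ U) ≫ p
  have hc : ∀ i, RepWith @Etale (c i) := fun i =>
    repWith_comp ((repWith_yon_iff _).2 (show Etale (Z' i).ι from inferInstance)) hp
  refine hom_ext_of_fppfCover (g := c) hY (fun i => IsAlgSpace.yon_obj _) ⟨fun i => ?_, fun y => ?_⟩ fun i => ?_
  · have h : LocP @Etale (c i) := (isEtaleMor_iff_locP hY).1 (isEtaleMor_of_repWith' (hc i))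
    exact ⟨fun V W a b c ha hb e => etST_flat.of_etale _ (h a b c ha hb e),
      fun V W a b c ha hb e => etST_lfp.of_etale _ (h a b c ha hb e)⟩
  · obtain ⟨v, rfl⟩ := ofPt_surjective hps y
    obtain ⟨i, hi⟩ := hcov v
    exact ⟨i, Points.ofScheme (Over.mk ((Z' i).ι ≫ U.hom)) ⟨v, hi⟩, by
      rw [← Points.ofPt_eq_map_ofScheme, ofPt_comp]; rfl⟩
  · have : IsAffine (Over.mk ((Z' i).ι ≫ U.hom)).left := hZ i
    obtain ⟨B, _, _, ⟨θ⟩⟩ := exists_spec_iso (Over.mk ((Z' i).ι ≫ U.hom))
    have := H B ((yon _).map θ.hom ≫ c i) ((repWith_iso_comp_iff ((yon _).map θ.hom) _).2 (hc i))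
    rw [Category.assoc, Category.assoc] at this
    exact (cancel_epi _).1 this

theorem subsingleton_or {A : Type u} [CommRing A] [Algebra R A] (h : IsGlueingPair R R' f)
    (hA : IsGlueable R R' f A) (q : PrimeSpectrum A) :
    q ∈ Set.range (PrimeSpectrum.comap (algebraMap A (Localization.Away (algebraMap R A f)))) ∨
      q ∈ Set.range (PrimeSpectrum.comap
        (Algebra.TensorProduct.includeRight (R := R) (A := R') (B := A)).toRingHom) := by
  by_cases hq : algebraMap R A f ∈ q.asIdeal
  · right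
    have hp := EtGlueLib.pair_of_glueable h A hA
    let A' := R' ⊗[R] A
    let j : A →+* A' := (Algebra.TensorProduct.includeRight (R := R) (A := R') (B := A)).toRingHom
    let I : Ideal A := Ideal.span {algebraMap R A f ^ 1}
    have hb := hp.1 1 Nat.one_pos
    let J : Ideal A' := Ideal.map j I
    obtain ⟨q', hq'⟩ : q ∈ Set.range (PrimeSpectrum.comap (Ideal.Quotient.mk I)) := by
      rw [_root_.range_comap_of_surjective _ _ Ideal.Quotient.mk_surjective, Ideal.mk_ker,
        PrimeSpectrum.mem_zeroLocus, SetLike.coe_subset_coe, Ideal.span_singleton_le_iff_mem, pow_one]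
      exact hq
    let e := RingEquiv.ofBijective _ hb
    refine ⟨PrimeSpectrum.comap (e.symm.toRingHom.comp (Ideal.Quotient.mk _)) q', ?_⟩
    rw [← hq', ← PrimeSpectrum.comap_comp_apply]
    congr 1
    refine RingHom.ext fun a => ?_
    exact e.symm_apply_apply (Ideal.Quotient.mk I a)
  · left
    rw [PrimeSpectrum.localization_away_comap_range (Localization.Away (algebraMap R A f)) (algebraMap R A f)]
    exact hq

end Groth.Agent.EtGlueSp
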