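import Groth.Agent.EtGlueSp.Local
import Groth.Agent.AlgSpLib.Sigma
import Groth.Agent.RelNorm.Glue

/-!
# Glueing morphisms into spaces with affine diagonal along a glueing pair
-/

set_option autoImplicit false
set_option linter.style.haveILetI false

universe u

open CategoryTheory CategoryTheory.Limits AlgebraicGeometry TensorProduct

set_option backward.isDefEq.respectTransparency false

namespace Groth.Agent.EtGlueSp

open _root_.AlgSp Groth.Agent.AlgSpLib EtGlue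

variable {R : Type u} [CommRing R] {f : R}

theorem exists_homAway {P : Type u} [CommRing P] [Algebra R P] (hu : IsUnit (algebraMap R P f)) :
    ∃ _σ : Localization.Away f →ₐ[R] P, True :=
  ⟨{ IsLocalization.Away.lift (S := Localization.Away f) f hu with
      commutes' := fun r => IsLocalization.Away.lift_eq f hu r }, trivial⟩

theorem homAway_ext {P : Type u} [CommRing P] [Algebra R P] (σ σ' : Localization.Away f →ₐ[R] P) : σ = σ' :=
  AlgHom.coe_ringHom_injective (IsLocalization.ringHom_ext (Submonoid.powers f)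
    (RingHom.ext fun r => (σ.commutes r).trans (σ'.commutes r).symm))

variable {R' : Type u} [CommRing R'] [Algebra R R']

/-- maps agreeing on an etale covering family of a scheme agree -/
theorem hom_ext_family {S : Scheme.{u}} {Z : Sp S} {T : Over S} {κ : Type u} {V : κ → Over S} (v : ∀ k, V k ⟶ T)
    (hv : ∀ k, Etale (v k).left) (hs : ∀ τ : T.left, ∃ k, τ ∈ Set.range (v k).left) {x y : (yon S).obj T ⟶ Z}
    (h : ∀ k, (yon S).map (v k) ≫ x = (yon S).map (v k) ≫ y) : x = y := by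
  refine hom_ext_of_fppfCover (g := fun k => (yon S).map (v k)) (IsAlgSpace.yon_obj T)
    (fun k => IsAlgSpace.yon_obj (V k)) ⟨fun k => ?_, fun τ => ?_⟩ h
  · have he : LocP @Etale ((yon S).map (v k)) := (isEtaleMor_iff_locP (IsAlgSpace.yon_obj T)).1
      (isEtaleMor_of_repWith' ((repWith_yon_iff (v k)).2 (hv k)))
    exact ⟨fun A B a b c ha hb e => etST_flat.of_etale _ (he a b c ha hb e),
      fun A B a b c ha hb e => etST_lfp.of_etale _ (he a b c ha hb e)⟩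
  · obtain ⟨τ, rfl⟩ := (Points.schemeHomeo T).surjective τ
    obtain ⟨k, w, hw⟩ := hs τ
    exact ⟨k, Points.schemeHomeo (V k) w, by rw [Points.map_yon_map_apply, hw]⟩

set_option maxHeartbeats 1600000 in
/-- morphisms glue along a glueing pair -/
theorem existsUnique_hom (h : IsGlueingPair R R' f) {Y Z YU ZU YX ZX YU' ZU' : Sp (Spec (CommRingCat.of R))}
    (hY : IsAlgSpace Y) (hZ : IsAlgSpace Z)
    (hgl : ∀ (A : Type u) [CommRing A] [Algebra R A] (g : (yon _).obj (SA (R := R) A) ⟶ Y), RepWith @Etale g →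
      IsGlueable R R' f A)
    (hd : RepWith @IsAffineHom (Limits.diag Z))
    (πY : Y ⟶ (yon _).obj (Over.mk (𝟙 _))) (πZ : Z ⟶ (yon _).obj (Over.mk (𝟙 _)))
    (inU : SA (R := R) (Localization.Away f) ⟶ Over.mk (𝟙 _)) (inX : SA (R := R) R' ⟶ Over.mk (𝟙 _))
    (uY : YU ⟶ Y) (sY : YU ⟶ (yon _).obj (SA (R := R) (Localization.Away f)))
    (hYU : IsPullback uY sY πY ((yon _).map inU))
    (uZ : ZU ⟶ Z) (xY : YX ⟶ Y) (rY : YX ⟶ (yon _).obj (SA (R := R) R'))
    (hYX : IsPullback xY rY πY ((yon _).map inX)) (xZ : ZX ⟶ Z)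
    (mY₁ : YU' ⟶ YU) (mY₂ : YU' ⟶ YX) (hYU' : IsPullback mY₁ mY₂ uY xY)
    (mZ₁ : ZU' ⟶ ZU) (mZ₂ : ZU' ⟶ ZX) (hZw : mZ₁ ≫ uZ = mZ₂ ≫ xZ)
    (a : YU ⟶ ZU) (b : YX ⟶ ZX) (c : YU' ⟶ ZU')
    (hc₁ : c ≫ mZ₁ = mY₁ ≫ a) (hc₂ : c ≫ mZ₂ = mY₂ ≫ b) :
    ∃! φ : Y ⟶ Z, uY ≫ φ = a ≫ uZ ∧ xY ≫ φ = b ≫ xZ := by
  classical
  obtain ⟨ι, A, _, _, g, hg, hgc, hA⟩ := exists_glueable_cover hY hgl
  let S := Spec (CommRingCat.of R)
  let EU : ∀ {T : Sp S} (_t : T ⟶ Y) (_s : T ⟶ (yon S).obj (SA (R := R) (Localization.Away f))), T ⟶ Z :=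
    fun t s => hYU.lift t s (SpQS.isTerminalBase.hom_ext _ _) ≫ a ≫ uZ
  let EX : ∀ {T : Sp S} (_t : T ⟶ Y) (_s : T ⟶ (yon S).obj (SA (R := R) R')), T ⟶ Z :=
    fun t s => hYX.lift t s (SpQS.isTerminalBase.hom_ext _ _) ≫ b ≫ xZ
  have hEU : ∀ {T T' : Sp S} (m : T' ⟶ T) (t : T ⟶ Y) (s : T ⟶ _) (s' : T' ⟶ _),
      s' = m ≫ s → m ≫ EU t s = EU (m ≫ t) s' := fun m t s s' hs => by
    simp only [EU, ← Category.assoc]
    congr 2
    exact hYU.hom_ext (by simp) (by simp [hs])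
  have hEX : ∀ {T T' : Sp S} (m : T' ⟶ T) (t : T ⟶ Y) (s : T ⟶ _) (s' : T' ⟶ _),
      s' = m ≫ s → m ≫ EX t s = EX (m ≫ t) s' := fun m t s s' hs => by
    simp only [EX, ← Category.assoc]
    congr 2
    exact hYX.hom_ext (by simp) (by simp [hs])
  have hboth : ∀ {T : Sp S} (t : T ⟶ Y) (s : T ⟶ _) (s' : T ⟶ _), EU t s = EX t s' := fun {T} t s s' => by
    let tU := hYU.lift t s (SpQS.isTerminalBase.hom_ext _ _)
    let tX := hYX.lift t s' (SpQS.isTerminalBase.hom_ext _ _)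
    have hw : tU ≫ uY = tX ≫ xY := (hYU.lift_fst _ _ _).trans (hYX.lift_fst _ _ _).symm
    show tU ≫ a ≫ uZ = tX ≫ b ≫ xZ
    rw [← hYU'.lift_fst tU tX hw, Category.assoc, ← reassoc_of% hc₁, hZw, reassoc_of% hc₂,
      hYU'.lift_snd_assoc]
  -- local lifts
  let K : Type u := Σ i, PrimeSpectrum (A i)
  have hloc : ∀ k : K, ∃ (C : Type u) (_ : CommRing C) (_ : Algebra R C) (α : A k.1 →ₐ[R] C)
      (z : (yon S).obj (SA (R := R) C) ⟶ Z), Etale (sa α).left ∧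
      k.2 ∈ Set.range (PrimeSpectrum.comap α.toRingHom) ∧
      (∀ (D : Type u) [CommRing D] [Algebra R D] (δ : C →ₐ[R] D) (σ : Localization.Away f →ₐ[R] D),
        (yon S).map (sa δ) ≫ z = EU ((yon S).map (sa δ) ≫ (yon S).map (sa α) ≫ g k.1) ((yon S).map (sa σ))) ∧
      (∀ (D : Type u) [CommRing D] [Algebra R D] (δ : C →ₐ[R] D) (σ : R' →ₐ[R] D),
        (yon S).map (sa δ) ≫ z = EX ((yon S).map (sa δ) ≫ (yon S).map (sa α) ≫ g k.1) ((yon S).map (sa σ))) := by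
    rintro ⟨i, p₀⟩
    letI : Algebra (A i) (R' ⊗[R] A i) := Algebra.TensorProduct.rightAlgebra
    haveI : IsScalarTower R (A i) (R' ⊗[R] A i) := IsScalarTower.of_algebraMap_eq fun r =>
      ((Algebra.TensorProduct.includeRight : A i →ₐ[R] R' ⊗[R] A i).commutes r).symm
    have hp := EtGlueLib.pair_of_glueable h (A i) (hA i)
    let Af := Localization.Away (algebraMap R (A i) f)
    let toAf : A i →ₐ[R] Af := IsScalarTower.toAlgHom R (A i) Af
    obtain ⟨σ₁, -⟩ := exists_homAway (f := f) (P := Af) isUnit_away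
    let z₁ : (yon S).obj (SA (R := R) Af) ⟶ Z := EU ((yon S).map (sa toAf) ≫ g i) ((yon S).map (sa σ₁))
    let incR : A i →ₐ[R] R' ⊗[R] A i := IsScalarTower.toAlgHom R (A i) (R' ⊗[R] A i)
    let incL : R' →ₐ[R] R' ⊗[R] A i := Algebra.TensorProduct.includeLeft
    let z₂ : (yon S).obj (SA (R := R) (R' ⊗[R] A i)) ⟶ Z := EX ((yon S).map (sa incR) ≫ g i) ((yon S).map (sa incL))
    have hz : ∀ (D : Type u) [CommRing D] [Algebra R D] (μ₁ : Af →ₐ[R] D) (μ₂ : R' ⊗[R] A i →ₐ[R] D),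
        μ₁.comp toAf = μ₂.comp incR → (yon S).map (sa μ₁) ≫ z₁ = (yon S).map (sa μ₂) ≫ z₂ := by
      intro D _ _ μ₁ μ₂ e
      rw [hEU _ _ _ ((yon S).map (sa (μ₁.comp σ₁))) (by rw [← Functor.map_comp, sa_comp]),
        hEX _ _ _ ((yon S).map (sa (μ₂.comp incL))) (by rw [← Functor.map_comp, sa_comp]),
        yon_sa_comp, yon_sa_comp, e]
      exact hboth _ _ _
    obtain ⟨B, _, _, bZ, hbZ, hqZ⟩ : ∃ (B : Type u) (_ : CommRing B) (_ : Algebra R B)
        (bZ : (yon S).obj (SA (R := R) B) ⟶ Z), RepWith @Etale bZ ∧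
        ((∃ p, PrimeSpectrum.comap (algebraMap (A i) Af) p = p₀ ∧
          Points.ofPt z₁ (p : (SA (R := R) Af).left) ∈ Set.range (Points.ofPt bZ)) ∨
        (∃ p, PrimeSpectrum.comap (algebraMap (A i) (R' ⊗[R] A i)) p = p₀ ∧
          Points.ofPt z₂ (p : (SA (R := R) (R' ⊗[R] A i)).left) ∈ Set.range (Points.ofPt bZ))) := by
      have hnhd : ∀ x : Points Z, ∃ (B : Type u) (_ : CommRing B) (_ : Algebra R B)
          (bZ : (yon S).obj (SA (R := R) B) ⟶ Z), RepWith @Etale bZ ∧ x ∈ Set.range (Points.ofPt bZ) := fun x => by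
        obtain ⟨U, π, κ, O, hπ, hπs, hO, -, hcov⟩ := exists_affine_chart_family hZ
        obtain ⟨v, rfl⟩ := ofPt_surjective hπs x
        obtain ⟨k, hk⟩ := hcov v
        have : IsAffine (Over.mk ((O k).ι ≫ U.hom)).left := hO k
        obtain ⟨B, _, _, ⟨θ⟩⟩ := exists_spec_iso (Over.mk ((O k).ι ≫ U.hom))
        let e : SA (R := R) B ⟶ U := θ.hom ≫ Over.homMk (O k).ι rfl
        have he : Etale e.left := by
          show Etale (θ.hom.left ≫ (O k).ι)
          infer_instance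
        refine ⟨B, _, _, (yon S).map e ≫ π, repWith_comp ((repWith_yon_iff e).2 he) hπ, ?_⟩
        obtain ⟨w, hw⟩ := θ.hom.left.homeomorph.surjective (⟨v, hk⟩ : (O k).toScheme)
        refine ⟨w, ?_⟩
        rw [ofPt_comp]
        congr 1
        show (O k).ι (θ.hom.left w) = v
        rw [show θ.hom.left w = (⟨v, hk⟩ : (O k).toScheme) from hw]
        rfl
      rcases subsingleton_or h (hA i) p₀ with ⟨p, hp'⟩ | ⟨p, hp'⟩
      · obtain ⟨B, _, _, bZ, hb, hx⟩ := hnhd (Points.ofPt z₁ (p : (SA (R := R) Af).left))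
        exact ⟨B, _, _, bZ, hb, Or.inl ⟨p, hp', hx⟩⟩
      · obtain ⟨B, _, _, bZ, hb, hx⟩ := hnhd (Points.ofPt z₂ (p : (SA (R := R) (R' ⊗[R] A i)).left))
        exact ⟨B, _, _, bZ, hb, Or.inr ⟨p, hp', hx⟩⟩
    obtain ⟨C, _, _, α, β, hα, hmem, hc₁', hc₂'⟩ := exists_local hZ hd hp z₁ z₂ hz bZ hbZ p₀ hqZ
    refine ⟨C, _, _, α, (yon S).map (sa β) ≫ bZ, ?_, hmem, fun D _ _ δ σ => ?_, fun D _ _ δ σ => ?_⟩
    · rw [sa_left]
      exact (HasRingHomProperty.Spec_iff (P := @Etale) (φ := CommRingCat.ofHom α.toRingHom)).2 hα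
    · obtain ⟨μ₁, hμ₁⟩ := exists_awayHom (f := f) (δ.comp α) (isUnit_of_hom σ (by
        exact IsLocalization.Away.algebraMap_isUnit f))
      rw [yon_sa_comp, hc₁' D δ μ₁ hμ₁,
        hEU _ _ _ ((yon S).map (sa σ)) (by rw [← Functor.map_comp, sa_comp, homAway_ext (μ₁.comp σ₁) σ]),
        yon_sa_comp, yon_sa_comp, hμ₁]
    · let μ₂ : R' ⊗[R] A i →ₐ[R] D := Algebra.TensorProduct.lift σ (δ.comp α) fun _ _ => Commute.all _ _
      have hμR : μ₂.comp incR = δ.comp α := AlgHom.ext fun x => by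
        show Algebra.TensorProduct.lift σ (δ.comp α) (fun _ _ => Commute.all _ _) ((1 : R') ⊗ₜ[R] x) = _
        rw [Algebra.TensorProduct.lift_tmul, map_one, one_mul]
      have hμL : μ₂.comp incL = σ := Algebra.TensorProduct.lift_comp_includeLeft _ _ _
      rw [yon_sa_comp, hc₂' D δ μ₂ hμR,
        hEX _ _ _ ((yon S).map (sa σ)) (by rw [← Functor.map_comp, sa_comp, hμL]),
        yon_sa_comp, yon_sa_comp, hμR]
  choose C hC₁ hC₂ α zC hαe hαs hP₁ hP₂ using hloc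
  let gC : ∀ k, (yon S).obj (SA (R := R) (C k)) ⟶ Y := fun k => (yon S).map (sa (α k)) ≫ g k.1
  have hgC : ∀ k, RepWith @Etale (gC k) := fun k => repWith_comp ((repWith_yon_iff _).2 (hαe k)) (hg k.1)
  have hQ₁ : ∀ (k : K) {T : Sp S} (_hT : IsAlgSpace T) (l : T ⟶ (yon S).obj (SA (R := R) (C k))) (s : T ⟶ _),
      l ≫ zC k = EU (l ≫ gC k) s := fun k T hT l s => by
    refine hom_ext_affine hT fun D _ _ d _ => ?_
    obtain ⟨l', hl'⟩ := exists_map_eq (d ≫ l)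
    obtain ⟨s', hs'⟩ := exists_map_eq (d ≫ s)
    obtain ⟨δ, rfl⟩ := exists_sa_eq l'
    obtain ⟨σ, rfl⟩ := exists_sa_eq s'
    rw [hEU d _ _ _ hs', ← Category.assoc, ← Category.assoc, ← hl']
    exact hP₁ k D δ σ
  have hQ₂ : ∀ (k : K) {T : Sp S} (_hT : IsAlgSpace T) (l : T ⟶ (yon S).obj (SA (R := R) (C k))) (s : T ⟶ _),
      l ≫ zC k = EX (l ≫ gC k) s := fun k T hT l s => by
    refine hom_ext_affine hT fun D _ _ d _ => ?_
    obtain ⟨l', hl'⟩ := exists_map_eq (d ≫ l)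
    obtain ⟨s', hs'⟩ := exists_map_eq (d ≫ s)
    obtain ⟨δ, rfl⟩ := exists_sa_eq l'
    obtain ⟨σ, rfl⟩ := exists_sa_eq s'
    rw [hEX d _ _ _ hs', ← Category.assoc, ← Category.assoc, ← hl']
    exact hP₂ k D δ σ
  -- agreement on overlaps
  have hover : ∀ (k k' : K) {T : Over S} (l : T ⟶ SA (R := R) (C k)) (l' : T ⟶ SA (R := R) (C k')),
      (yon S).map l ≫ gC k = (yon S).map l' ≫ gC k' → (yon S).map l ≫ zC k = (yon S).map l' ≫ zC k' := by
    intro k k' T l l' e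
    obtain ⟨W, p, q, sq⟩ := exists_pullback hY.diag (gC k) (gC k')
    have key : (yon S).map p ≫ zC k = (yon S).map q ≫ zC k' := by
      refine hom_ext_affine (IsAlgSpace.yon_obj W) fun D _ _ d hd' => ?_
      have hD : IsGlueable R R' f D := hgl D (d ≫ (yon S).map p ≫ gC k) (repWith_comp hd'
        (repWith_comp (repWith_baseChange sq.flip (hgC k')) (hgC k)))
      refine eq_on_affine h hZ hD _ _ (fun m _ => ?_) (fun m _ => ?_)
      · obtain ⟨σ, -⟩ := exists_homAway (f := f) (P := Localization.Away (algebraMap R D f)) isUnit_away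
        have e₁ := hQ₁ k (IsAlgSpace.yon_obj _) ((yon S).map m ≫ d ≫ (yon S).map p) ((yon S).map (sa σ))
        have e₂ := hQ₁ k' (IsAlgSpace.yon_obj _) ((yon S).map m ≫ d ≫ (yon S).map q) ((yon S).map (sa σ))
        simp only [Category.assoc] at e₁ e₂ ⊢
        rw [sq.w] at e₁
        rw [e₁, e₂]
      · let σ : R' →ₐ[R] R' ⊗[R] D := Algebra.TensorProduct.includeLeft
        have e₁ := hQ₂ k (IsAlgSpace.yon_obj _) ((yon S).map m ≫ d ≫ (yon S).map p) ((yon S).map (sa σ))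
        have e₂ := hQ₂ k' (IsAlgSpace.yon_obj _) ((yon S).map m ≫ d ≫ (yon S).map q) ((yon S).map (sa σ))
        simp only [Category.assoc] at e₁ e₂ ⊢
        rw [sq.w] at e₁
        rw [e₁, e₂]
    rw [← sq.lift_fst ((yon S).map l) ((yon S).map l') e, Category.assoc, key, sq.lift_snd_assoc]
  -- the descent
  let V : K → Scheme.{u} := fun k => (SA (R := R) (C k)).left
  let fV : ∀ k, V k ⟶ S := fun k => (SA (R := R) (C k)).hom
  let U : Over S := Over.mk (Sigma.desc fV)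
  let j : ∀ k, SA (R := R) (C k) ⟶ U := fun k => Over.homMk (Sigma.ι V k) (Sigma.ι_desc fV k)
  obtain ⟨q, hq⟩ := exists_sigma_hom fV gC
  obtain ⟨L, hL⟩ := exists_sigma_hom fV zC
  have hcovY : IsFppfCover (fun k => (yon S).obj (SA (R := R) (C k))) gC := ⟨fun k => by
    have he : LocP @Etale (gC k) := (isEtaleMor_iff_locP hY).1 (isEtaleMor_of_repWith' (hgC k))
    exact ⟨fun A B a b c ha hb e => etST_flat.of_etale _ (he a b c ha hb e),
      fun A B a b c ha hb e => etST_lfp.of_etale _ (he a b c ha hb e)⟩, fun y => by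
    obtain ⟨i, w, rfl⟩ := hgc y
    obtain ⟨x, rfl⟩ := (Points.schemeHomeo _).surjective w
    obtain ⟨x', hx'⟩ := hαs ⟨i, x⟩
    refine ⟨⟨i, x⟩, Points.schemeHomeo _ x', ?_⟩
    rw [Points.map_comp, Points.map_yon_map_apply]
    congr 2⟩
  haveI : Epi q := ⟨fun x y e => hom_ext_of_fppfCover hY (fun k => IsAlgSpace.yon_obj _) hcovY fun k => by
    rw [← hq k, Category.assoc, Category.assoc, e]⟩
  obtain ⟨φ, hφ, -⟩ := RelNorm.exists_desc_epi q L (by
    refine (J S).hom_ext_uliftYoneda.{u + 1} fun T t => ?_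
    obtain ⟨l₁, hl₁⟩ := exists_map_eq (t ≫ pullback.fst q q)
    obtain ⟨l₂, hl₂⟩ := exists_map_eq (t ≫ pullback.snd q q)
    rw [← Category.assoc, ← Category.assoc, ← hl₁, ← hl₂]
    have he : (yon S).map l₁ ≫ q = (yon S).map l₂ ≫ q := by
      rw [hl₁, hl₂, Category.assoc, Category.assoc, pullback.condition]
    let O : K × K → T.left.Opens := fun kk =>
      l₁.left ⁻¹ᵁ (Sigma.ι V kk.1).opensRange ⊓ l₂.left ⁻¹ᵁ (Sigma.ι V kk.2).opensRange
    refine hom_ext_family (V := fun kk => Over.mk ((O kk).ι ≫ T.hom)) (fun kk => Over.homMk (O kk).ι rfl)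
      (fun kk => show Etale (O kk).ι from inferInstance) (fun τ => ?_) (fun kk => ?_)
    · obtain ⟨k₁, v₁, hv₁⟩ := Scheme.Cover.exists_eq (sigmaOpenCover V) (l₁.left τ)
      obtain ⟨k₂, v₂, hv₂⟩ := Scheme.Cover.exists_eq (sigmaOpenCover V) (l₂.left τ)
      exact ⟨(k₁, k₂), (⟨τ, ⟨v₁, hv₁⟩, ⟨v₂, hv₂⟩⟩ : (O (k₁, k₂)).toScheme), rfl⟩
    · let m₁ : (O kk).toScheme ⟶ V kk.1 := IsOpenImmersion.lift (Sigma.ι V kk.1) ((O kk).ι ≫ l₁.left) (by
        rintro _ ⟨x, rfl⟩; exact x.2.1)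
      let m₂ : (O kk).toScheme ⟶ V kk.2 := IsOpenImmersion.lift (Sigma.ι V kk.2) ((O kk).ι ≫ l₂.left) (by
        rintro _ ⟨x, rfl⟩; exact x.2.2)
      have hm₁ : m₁ ≫ Sigma.ι V kk.1 = (O kk).ι ≫ l₁.left := IsOpenImmersion.lift_fac _ _ _
      have hm₂ : m₂ ≫ Sigma.ι V kk.2 = (O kk).ι ≫ l₂.left := IsOpenImmersion.lift_fac _ _ _
      let o : Over.mk ((O kk).ι ≫ T.hom) ⟶ T := Over.homMk (O kk).ι rfl
      let n₁ : Over.mk ((O kk).ι ≫ T.hom) ⟶ SA (R := R) (C kk.1) := Over.homMk m₁ (by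
        show m₁ ≫ fV kk.1 = (O kk).ι ≫ T.hom
        rw [← Over.w l₁, ← reassoc_of% hm₁]
        exact congrArg _ (Sigma.ι_desc fV kk.1).symm)
      let n₂ : Over.mk ((O kk).ι ≫ T.hom) ⟶ SA (R := R) (C kk.2) := Over.homMk m₂ (by
        show m₂ ≫ fV kk.2 = (O kk).ι ≫ T.hom
        rw [← Over.w l₂, ← reassoc_of% hm₂]
        exact congrArg _ (Sigma.ι_desc fV kk.2).symm)
      have en₁ : o ≫ l₁ = n₁ ≫ j kk.1 := Over.OverMorphism.ext hm₁.symm
      have en₂ : o ≫ l₂ = n₂ ≫ j kk.2 := Over.OverMorphism.ext hm₂.symm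
      show (yon S).map o ≫ (yon S).map l₁ ≫ L = (yon S).map o ≫ (yon S).map l₂ ≫ L
      rw [← Functor.map_comp_assoc, ← Functor.map_comp_assoc, en₁, en₂, Functor.map_comp_assoc,
        Functor.map_comp_assoc]
      have e₁ : (yon S).map (j kk.1) ≫ L = zC kk.1 := hL kk.1
      have e₂ : (yon S).map (j kk.2) ≫ L = zC kk.2 := hL kk.2
      rw [e₁, e₂]
      refine hover _ _ n₁ n₂ ?_
      have f₁ : (yon S).map (j kk.1) ≫ q = gC kk.1 := hq kk.1
      have f₂ : (yon S).map (j kk.2) ≫ q = gC kk.2 := hq kk.2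
      rw [← f₁, ← f₂, ← Functor.map_comp_assoc, ← Functor.map_comp_assoc, ← en₁, ← en₂, Functor.map_comp_assoc,
        Functor.map_comp_assoc, he])
  have hφk : ∀ k, gC k ≫ φ = zC k := fun k => by rw [← hq k, Category.assoc, hφ]; exact hL k
  have hYUa : IsAlgSpace YU :=
    isAlgSpace_of_isPullback_space (IsAlgSpace.yon_obj _) hY (IsAlgSpace.yon_obj _) hYU
  have hYXa : IsAlgSpace YX :=
    isAlgSpace_of_isPullback_space (IsAlgSpace.yon_obj _) hY (IsAlgSpace.yon_obj _) hYX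
  have hpieces : ∀ {T : Over S} (t : (yon S).obj T ⟶ Y) (x y : (yon S).obj T ⟶ Z),
      (∀ k {W : Over S} (p : W ⟶ SA (R := R) (C k)) (w : W ⟶ T), (yon S).map p ≫ gC k = (yon S).map w ≫ t →
        (yon S).map w ≫ x = (yon S).map w ≫ y) → x = y := by
    intro T t x y H
    choose W p w sq using fun k => exists_pullback hY.diag (gC k) t
    refine hom_ext_family w (fun k => (repWith_yon_iff _).1 (repWith_baseChange (sq k) (hgC k))) (fun τ => ?_)
      fun k => H k (p k) (w k) (sq k).w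
    obtain ⟨k, v, hv⟩ := hcovY.2 (Points.ofPt t τ)
    obtain ⟨v, rfl⟩ := (Points.schemeHomeo _).surjective v
    obtain ⟨z, -, hz⟩ := (ofPt_eq_iff (sq k) v τ).1 (by
      rw [← hv, Points.ofPt_eq_map_ofScheme]
      rfl)
    exact ⟨k, z, hz⟩
  refine ⟨φ, ⟨?_, ?_⟩, fun φ' hφ' => ?_⟩
  · refine hom_ext_affine hYUa fun D _ _ d _ => hpieces (d ≫ uY) _ _ fun k W p w e => ?_
    have e₁ := hQ₁ k (IsAlgSpace.yon_obj _) ((yon S).map p) ((yon S).map w ≫ d ≫ sY)
    have e₂ : hYU.lift ((yon S).map p ≫ gC k) ((yon S).map w ≫ d ≫ sY) (SpQS.isTerminalBase.hom_ext _ _) =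
        (yon S).map w ≫ d := hYU.hom_ext (by simp [e]) (by simp)
    rw [← hφk k] at e₁
    change _ = _ ≫ a ≫ uZ at e₁
    rw [e₂, ← Category.assoc, e] at e₁
    simpa only [Category.assoc] using e₁
  · refine hom_ext_affine hYXa fun D _ _ d _ => hpieces (d ≫ xY) _ _ fun k W p w e => ?_
    have e₁ := hQ₂ k (IsAlgSpace.yon_obj _) ((yon S).map p) ((yon S).map w ≫ d ≫ rY)
    have e₂ : hYX.lift ((yon S).map p ≫ gC k) ((yon S).map w ≫ d ≫ rY) (SpQS.isTerminalBase.hom_ext _ _) =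
        (yon S).map w ≫ d := hYX.hom_ext (by simp [e]) (by simp)
    rw [← hφk k] at e₁
    change _ = _ ≫ b ≫ xZ at e₁
    rw [e₂, ← Category.assoc, e] at e₁
    simpa only [Category.assoc] using e₁
  · have h₁ : uY ≫ φ = a ≫ uZ := by
      refine hom_ext_affine hYUa fun D _ _ d _ => hpieces (d ≫ uY) _ _ fun k W p w e => ?_
      have e₁ := hQ₁ k (IsAlgSpace.yon_obj _) ((yon S).map p) ((yon S).map w ≫ d ≫ sY)
      have e₂ : hYU.lift ((yon S).map p ≫ gC k) ((yon S).map w ≫ d ≫ sY) (SpQS.isTerminalBase.hom_ext _ _) =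
          (yon S).map w ≫ d := hYU.hom_ext (by simp [e]) (by simp)
      rw [← hφk k] at e₁
      change _ = _ ≫ a ≫ uZ at e₁
      rw [e₂, ← Category.assoc, e] at e₁
      simpa only [Category.assoc] using e₁
    have h₂ : xY ≫ φ = b ≫ xZ := by
      refine hom_ext_affine hYXa fun D _ _ d _ => hpieces (d ≫ xY) _ _ fun k W p w e => ?_
      have e₁ := hQ₂ k (IsAlgSpace.yon_obj _) ((yon S).map p) ((yon S).map w ≫ d ≫ rY)
      have e₂ : hYX.lift ((yon S).map p ≫ gC k) ((yon S).map w ≫ d ≫ rY) (SpQS.isTerminalBase.hom_ext _ _) =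
          (yon S).map w ≫ d := hYX.hom_ext (by simp [e]) (by simp)
      rw [← hφk k] at e₁
      change _ = _ ≫ b ≫ xZ at e₁
      rw [e₂, ← Category.assoc, e] at e₁
      simpa only [Category.assoc] using e₁
    exact eq_of_eq_baseChange h hY hZ hgl φ' φ πY inU uY sY hYU inX xY rY hYX (hφ'.1.trans h₁.symm)
      (hφ'.2.trans h₂.symm)

end Groth.Agent.EtGlueSp
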