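import Groth.Agent.EtGlueSp.Unique
import Groth.Agent.EtGlueLib.Glue
import Groth.Agent.AlgSpLib.FpqcProps
import Groth.Agent.AlgSpLib.SepAffine

/-!
# Glueing points of a space with affine diagonal along a glueing pair, etale locally
-/

set_option autoImplicit false
set_option linter.style.haveILetI false

universe u

open CategoryTheory CategoryTheory.Limits AlgebraicGeometry TensorProduct

set_option backward.isDefEq.respectTransparency false

namespace Groth.Agent.EtGlueSp

open _root_.AlgSp Groth.Agent.AlgSpLib EtGlue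

variable {R : Type u} [CommRing R]

/-- the map of spectra of an algebra map -/
noncomputable def sa {A B : Type u} [CommRing A] [CommRing B] [Algebra R A] [Algebra R B] (φ : A →ₐ[R] B) :
    SA (R := R) B ⟶ SA A :=
  Over.homMk (Spec.map (CommRingCat.ofHom φ.toRingHom)) (by
    show Spec.map _ ≫ Spec.map _ = Spec.map _
    rw [← Spec.map_comp, ← CommRingCat.ofHom_comp]
    congr 2
    exact φ.comp_algebraMap)

theorem sa_left {A B : Type u} [CommRing A] [CommRing B] [Algebra R A] [Algebra R B] (φ : A →ₐ[R] B) :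
    (sa φ).left = Spec.map (CommRingCat.ofHom φ.toRingHom) := rfl

theorem sa_comp {A B C : Type u} [CommRing A] [CommRing B] [CommRing C] [Algebra R A] [Algebra R B] [Algebra R C]
    (φ : A →ₐ[R] B) (ψ : B →ₐ[R] C) : sa ψ ≫ sa φ = sa (ψ.comp φ) :=
  Over.OverMorphism.ext ((Spec.map_comp _ _).symm)

theorem yon_sa_comp {A B C : Type u} [CommRing A] [CommRing B] [CommRing C] [Algebra R A] [Algebra R B] [Algebra R C]
    (φ : A →ₐ[R] B) (ψ : B →ₐ[R] C) {Z : Sp (Spec (CommRingCat.of R))} (x : (yon _).obj (SA (R := R) A) ⟶ Z) :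
    (yon _).map (sa ψ) ≫ (yon _).map (sa φ) ≫ x = (yon _).map (sa (ψ.comp φ)) ≫ x := by
  rw [← Functor.map_comp_assoc, sa_comp]

theorem sa_injective {A B : Type u} [CommRing A] [CommRing B] [Algebra R A] [Algebra R B] {φ ψ : A →ₐ[R] B}
    (h : sa φ = sa ψ) : φ = ψ :=
  AlgHom.coe_ringHom_injective (congrArg CommRingCat.Hom.hom (Spec.map_injective (congrArg (fun g => g.left) h)))

theorem exists_sa_eq {A B : Type u} [CommRing A] [CommRing B] [Algebra R A] [Algebra R B]
    (h : SA (R := R) B ⟶ SA A) : ∃ φ : A →ₐ[R] B, h = sa φ := by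
  obtain ⟨φ, hφ⟩ := exists_algHom_of_hom h
  exact ⟨φ, Over.OverMorphism.ext hφ⟩

section away

variable {f : R} {A P : Type u} [CommRing A] [Algebra R A] [CommRing P] [Algebra R P]

/-- maps out of a localization at an element of the base -/
theorem exists_awayHom (φ : A →ₐ[R] P) (hu : IsUnit (algebraMap R P f)) :
    ∃ ψ : Localization.Away (algebraMap R A f) →ₐ[R] P,
      ψ.comp (IsScalarTower.toAlgHom R A _) = φ := by
  have hg : IsUnit (φ.toRingHom (algebraMap R A f)) := by
    show IsUnit (φ (algebraMap R A f))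
    rw [φ.commutes]
    exact hu
  refine ⟨{ IsLocalization.Away.lift (S := Localization.Away (algebraMap R A f)) _ hg with
    commutes' := fun r => ?_ }, AlgHom.ext fun a => IsLocalization.Away.lift_eq _ hg a⟩
  show IsLocalization.Away.lift (S := Localization.Away (algebraMap R A f)) _ hg _ = _
  rw [IsScalarTower.algebraMap_apply R A (Localization.Away (algebraMap R A f)), IsLocalization.Away.lift_eq]
  exact φ.commutes r

theorem awayHom_ext {ψ ψ' : Localization.Away (algebraMap R A f) →ₐ[R] P}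
    (h : ψ.comp (IsScalarTower.toAlgHom R A _) = ψ'.comp (IsScalarTower.toAlgHom R A _)) : ψ = ψ' :=
  AlgHom.coe_ringHom_injective (IsLocalization.ringHom_ext (Submonoid.powers (algebraMap R A f))
    (RingHom.ext fun a => AlgHom.congr_fun h a))

theorem isUnit_away : IsUnit (algebraMap R (Localization.Away (algebraMap R A f)) f) := by
  rw [IsScalarTower.algebraMap_apply R A (Localization.Away (algebraMap R A f))]
  exact IsLocalization.Away.algebraMap_isUnit _

theorem isUnit_of_hom {Q : Type u} [CommRing Q] [Algebra R Q] (φ : Q →ₐ[R] P) (h : IsUnit (algebraMap R Q f)) :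
    IsUnit (algebraMap R P f) := by
  rw [← φ.commutes]
  exact h.map φ

end away

/-- the fibre product of two affine schemes over a space with affine diagonal, as an algebra -/
theorem exists_fibre {Z : Sp (Spec (CommRingCat.of R))} (hZ : IsAlgSpace Z)
    (hd : RepWith @IsAffineHom (Limits.diag Z)) {A B : Type u} [CommRing A] [CommRing B] [Algebra R A] [Algebra R B]
    (z : (yon _).obj (SA (R := R) A) ⟶ Z) (b : (yon _).obj (SA (R := R) B) ⟶ Z) (hb : RepWith @Etale b) :
    ∃ (C : Type u) (_ : CommRing C) (_ : Algebra R C) (α : A →ₐ[R] C) (β : B →ₐ[R] C),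
      α.toRingHom.Etale ∧ (yon _).map (sa α) ≫ z = (yon _).map (sa β) ≫ b ∧
      (∀ q : PrimeSpectrum A, Points.ofPt z (q : (SA (R := R) A).left) ∈ Set.range (Points.ofPt b) →
        q ∈ Set.range (PrimeSpectrum.comap α.toRingHom)) ∧
      ∀ (D : Type u) [CommRing D] [Algebra R D] (α' : A →ₐ[R] D) (β' : B →ₐ[R] D),
        (yon _).map (sa α') ≫ z = (yon _).map (sa β') ≫ b →
          ∃! γ : C →ₐ[R] D, γ.comp α = α' ∧ γ.comp β = β' := by
  obtain ⟨W, p, q, sq⟩ := exists_pullback hZ.diag z b
  have : IsAffine W.left := by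
    have : IsAffineHom (prod.lift p q).left := (repWith_yon_iff _).1 (repWith_lift_of_diag hd sq)
    have : IsAffine (SA (R := R) B).left := inferInstanceAs (IsAffine (Spec (CommRingCat.of B)))
    have : IsAffineHom (SA (R := R) A).hom := inferInstanceAs (IsAffineHom (Spec.map _))
    have : IsAffine (pullback (SA (R := R) A).hom (SA (R := R) B).hom) :=
      isAffine_of_isAffineHom (pullback.snd (SA (R := R) A).hom (SA (R := R) B).hom)
    have : IsAffine (SA (R := R) A ⨯ SA (R := R) B).left :=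
      IsAffine.of_isIso (Over.prodLeftIsoPullback (SA (R := R) A) (SA (R := R) B)).hom
    exact isAffine_of_isAffineHom (prod.lift p q).left
  obtain ⟨C, _, _, ⟨θ⟩⟩ := exists_spec_iso W
  obtain ⟨α, hα⟩ := exists_sa_eq (θ.hom ≫ p)
  obtain ⟨β, hβ⟩ := exists_sa_eq (θ.hom ≫ q)
  have he : Etale p.left := (repWith_yon_iff p).1 (repWith_baseChange sq.flip hb)
  refine ⟨C, _, _, α, β, ?_, ?_, fun x hx => ?_, fun D _ _ α' β' e => ?_⟩
  · have h1 : Etale (sa α).left := by
      rw [← hα, Over.comp_left]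
      infer_instance
    rw [sa_left] at h1
    exact (HasRingHomProperty.Spec_iff (P := @Etale) (φ := CommRingCat.ofHom α.toRingHom)).1 h1
  · rw [← hα, ← hβ, Functor.map_comp_assoc, Functor.map_comp_assoc, sq.w]
  · obtain ⟨y, hy⟩ := hx
    obtain ⟨w, hw, -⟩ := (ofPt_eq_iff sq (x : (SA (R := R) A).left) y).1 hy.symm
    obtain ⟨c, hc⟩ := θ.hom.left.homeomorph.surjective w
    refine ⟨c, ?_⟩
    show (sa α).left c = x
    rw [← hα]
    show p.left (θ.hom.left c) = x
    rw [show θ.hom.left c = w from hc, hw]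
  · obtain ⟨l, hl⟩ := exists_map_eq (sq.lift _ _ e)
    obtain ⟨γ, hγ⟩ := exists_sa_eq (l ≫ θ.inv)
    have h₁ : γ.comp α = α' := sa_injective ((yon _).map_injective (by
      rw [← sa_comp, ← hγ, ← hα, Category.assoc, Iso.inv_hom_id_assoc, Functor.map_comp, hl, sq.lift_fst]))
    have h₂ : γ.comp β = β' := sa_injective ((yon _).map_injective (by
      rw [← sa_comp, ← hγ, ← hβ, Category.assoc, Iso.inv_hom_id_assoc, Functor.map_comp, hl, sq.lift_snd]))
    refine ⟨γ, ⟨h₁, h₂⟩, fun γ' h' => sa_injective ?_⟩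
    rw [← cancel_mono θ.hom]
    apply (yon _).map_injective
    apply sq.hom_ext
    · rw [← Functor.map_comp, ← Functor.map_comp, Category.assoc, Category.assoc, hα, sa_comp, sa_comp, h'.1, h₁]
    · rw [← Functor.map_comp, ← Functor.map_comp, Category.assoc, Category.assoc, hβ, sa_comp, sa_comp, h'.2, h₂]

variable {f : R}

set_option maxHeartbeats 1600000 in
/-- glueing two compatible points etale locally -/
theorem exists_local {Z : Sp (Spec (CommRingCat.of R))} (hZ : IsAlgSpace Z)
    (hd : RepWith @IsAffineHom (Limits.diag Z)) {A A' : Type u} [CommRing A] [CommRing A'] [Algebra R A]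
    [Algebra R A'] [Algebra A A'] [IsScalarTower R A A'] (hp : IsGlueingPair A A' (algebraMap R A f))
    (z₁ : (yon _).obj (SA (R := R) (Localization.Away (algebraMap R A f))) ⟶ Z)
    (z₂ : (yon _).obj (SA (R := R) A') ⟶ Z)
    (hz : ∀ (D : Type u) [CommRing D] [Algebra R D] (μ₁ : Localization.Away (algebraMap R A f) →ₐ[R] D)
      (μ₂ : A' →ₐ[R] D), μ₁.comp (IsScalarTower.toAlgHom R A _) = μ₂.comp (IsScalarTower.toAlgHom R A A') →
        (yon _).map (sa μ₁) ≫ z₁ = (yon _).map (sa μ₂) ≫ z₂)
    {B : Type u} [CommRing B] [Algebra R B] (b : (yon _).obj (SA (R := R) B) ⟶ Z) (hb : RepWith @Etale b)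
    (q : PrimeSpectrum A)
    (hq : (∃ p, PrimeSpectrum.comap (algebraMap A (Localization.Away (algebraMap R A f))) p = q ∧
        Points.ofPt z₁ (p : (SA (R := R) (Localization.Away (algebraMap R A f))).left) ∈ Set.range (Points.ofPt b)) ∨
      (∃ p, PrimeSpectrum.comap (algebraMap A A') p = q ∧
        Points.ofPt z₂ (p : (SA (R := R) A').left) ∈ Set.range (Points.ofPt b))) :
    ∃ (C : Type u) (_ : CommRing C) (_ : Algebra R C) (α : A →ₐ[R] C) (β : B →ₐ[R] C),
      α.toRingHom.Etale ∧ q ∈ Set.range (PrimeSpectrum.comap α.toRingHom) ∧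
      (∀ (D : Type u) [CommRing D] [Algebra R D] (δ : C →ₐ[R] D)
        (μ₁ : Localization.Away (algebraMap R A f) →ₐ[R] D),
          μ₁.comp (IsScalarTower.toAlgHom R A _) = δ.comp α →
            (yon _).map (sa (δ.comp β)) ≫ b = (yon _).map (sa μ₁) ≫ z₁) ∧
      (∀ (D : Type u) [CommRing D] [Algebra R D] (δ : C →ₐ[R] D) (μ₂ : A' →ₐ[R] D),
          μ₂.comp (IsScalarTower.toAlgHom R A A') = δ.comp α →
            (yon _).map (sa (δ.comp β)) ≫ b = (yon _).map (sa μ₂) ≫ z₂) := by
  let Af := Localization.Away (algebraMap R A f)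
  let toAf : A →ₐ[R] Af := IsScalarTower.toAlgHom R A Af
  obtain ⟨C₁, _, _, α₁, β₁, hα₁, e₁, hs₁, hu₁⟩ := exists_fibre hZ hd z₁ b hb
  obtain ⟨C', _, _, α', β', hα', e', hs', hu'⟩ := exists_fibre hZ hd z₂ b hb
  letI : Algebra A C₁ := (α₁.comp toAf).toRingHom.toAlgebra
  haveI : IsScalarTower R A C₁ := IsScalarTower.of_algebraMap_eq fun r => ((α₁.comp toAf).commutes r).symm
  letI : Algebra A' C' := α'.toRingHom.toAlgebra
  letI : Algebra A C' := (α'.comp (IsScalarTower.toAlgHom R A A')).toRingHom.toAlgebra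
  haveI : IsScalarTower A A' C' := IsScalarTower.of_algebraMap_eq fun _ => rfl
  haveI : IsScalarTower R A C' :=
    IsScalarTower.of_algebraMap_eq fun r => ((α'.comp (IsScalarTower.toAlgHom R A A')).commutes r).symm
  haveI : IsScalarTower R A' C' := IsScalarTower.of_algebraMap_eq fun r => (α'.commutes r).symm
  have h₁ : IsUnit (algebraMap R C₁ f) := isUnit_of_hom α₁ isUnit_away
  let D₁ := A' ⊗[A] C₁
  haveI : IsScalarTower R A D₁ := IsScalarTower.of_algebraMap_eq fun r => by
    show algebraMap R A' r ⊗ₜ[A] (1 : C₁) = algebraMap A A' (algebraMap R A r) ⊗ₜ[A] (1 : C₁)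
    rw [← IsScalarTower.algebraMap_apply]
  haveI : IsScalarTower R A' D₁ := IsScalarTower.of_algebraMap_eq fun _ => rfl
  let incL : A' →ₐ[R] D₁ := IsScalarTower.toAlgHom R A' D₁
  let incR : C₁ →ₐ[R] D₁ := (Algebra.TensorProduct.includeRight : C₁ →ₐ[A] D₁).restrictScalars R
  have hincA : ∀ a : A, incR (α₁ (toAf a)) = incL (algebraMap A A' a) := fun a => by
    show (Algebra.TensorProduct.includeRight : C₁ →ₐ[A] D₁) (algebraMap A C₁ a) = algebraMap A' D₁ (algebraMap A A' a)
    rw [AlgHom.commutes, ← IsScalarTower.algebraMap_apply]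
  obtain ⟨γ, ⟨hγα, hγβ⟩, -⟩ := hu' D₁ incL (incR.comp β₁) (by
    rw [← yon_sa_comp β₁ incR b, ← e₁, yon_sa_comp]
    exact (hz D₁ (incR.comp α₁) incL (AlgHom.ext hincA)).symm)
  let L := Localization.Away (algebraMap A C' (algebraMap R A f))
  have hfC' : algebraMap A C' (algebraMap R A f) = algebraMap R C' f := (IsScalarTower.algebraMap_apply R A C' f).symm
  have hLu : IsUnit (algebraMap R L f) := by
    rw [IsScalarTower.algebraMap_apply R C' L, ← hfC']
    exact IsLocalization.Away.algebraMap_isUnit _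
  let toL : C' →ₐ[R] L := IsScalarTower.toAlgHom R C' L
  have hLext : ∀ {D : Type u} [CommRing D] [Algebra R D] (g g' : L →ₐ[R] D), g.comp toL = g'.comp toL → g = g' :=
    fun g g' e => AlgHom.coe_ringHom_injective (IsLocalization.ringHom_ext
      (Submonoid.powers (algebraMap A C' (algebraMap R A f))) (RingHom.ext fun c => AlgHom.congr_fun e c))
  have hD₁u : IsUnit (algebraMap R D₁ f) := isUnit_of_hom incR h₁
  have hγu : IsUnit (γ.toRingHom (algebraMap A C' (algebraMap R A f))) := by
    show IsUnit (γ (algebraMap A C' (algebraMap R A f)))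
    rw [hfC', γ.commutes]
    exact hD₁u
  let ψ : L →ₐ[A'] D₁ :=
    { IsLocalization.Away.lift (S := L) _ hγu with
      commutes' := fun a => by
        show IsLocalization.Away.lift (S := L) _ hγu _ = _
        rw [IsScalarTower.algebraMap_apply A' C' L, IsLocalization.Away.lift_eq]
        exact AlgHom.congr_fun hγα a }
  have hψ : ∀ c, ψ (toL c) = γ c := fun c => IsLocalization.Away.lift_eq _ hγu c
  obtain ⟨αL, hαL⟩ := exists_awayHom (f := f) (toL.comp (α'.comp (IsScalarTower.toAlgHom R A A'))) hLu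
  obtain ⟨ω, ⟨hωα, hωβ⟩, -⟩ := hu₁ L αL (toL.comp β') (by
    rw [← yon_sa_comp β' toL b, ← e', yon_sa_comp]
    exact hz L αL (toL.comp α') hαL)
  let ωA : C₁ →ₐ[A] L :=
    { ω.toRingHom with
      commutes' := fun a => (AlgHom.congr_fun hωα (toAf a)).trans ((AlgHom.congr_fun hαL a).trans
        (IsScalarTower.algebraMap_apply A C' L a).symm) }
  let ψi : D₁ →ₐ[A'] L := Algebra.TensorProduct.lift (Algebra.ofId A' L) ωA fun _ _ => Commute.all _ _
  have hψiR : ∀ c, ψi (incR c) = ω c := fun c => by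
    show Algebra.TensorProduct.lift _ _ _ ((1 : A') ⊗ₜ[A] c) = _
    rw [Algebra.TensorProduct.lift_tmul, map_one, one_mul]
    rfl
  have hψω : (ψ.restrictScalars R).comp ω = incR := by
    obtain ⟨γ₀, -, hun⟩ := hu₁ D₁ (incR.comp α₁) (incR.comp β₁) (by
      rw [← yon_sa_comp α₁ incR z₁, e₁, yon_sa_comp])
    refine (hun _ ⟨?_, ?_⟩).trans (hun incR ⟨rfl, rfl⟩).symm
    · refine awayHom_ext ?_
      refine AlgHom.ext fun a => ?_
      show ψ (ω (α₁ (toAf a))) = incR (α₁ (toAf a))
      rw [show ω (α₁ (toAf a)) = toL (α' (algebraMap A A' a)) from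
        (AlgHom.congr_fun hωα (toAf a)).trans (AlgHom.congr_fun hαL a), hψ, hincA]
      exact AlgHom.congr_fun hγα _
    · rw [AlgHom.comp_assoc, hωβ]
      refine AlgHom.ext fun x => ?_
      show ψ (toL (β' x)) = _
      rw [hψ]
      exact AlgHom.congr_fun hγβ x
  have hψiγ : (ψi.restrictScalars R).comp γ = toL := by
    obtain ⟨γ₀, -, hun⟩ := hu' L (toL.comp α') (toL.comp β') (by
      rw [← yon_sa_comp α' toL z₂, e', yon_sa_comp])
    refine (hun _ ⟨?_, ?_⟩).trans (hun toL ⟨rfl, rfl⟩).symm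
    · rw [AlgHom.comp_assoc, hγα]
      refine AlgHom.ext fun a => ?_
      show ψi (algebraMap A' D₁ a) = toL (α' a)
      rw [AlgHom.commutes, IsScalarTower.algebraMap_apply A' C' L]
      rfl
    · rw [AlgHom.comp_assoc, hγβ]
      refine AlgHom.ext fun x => ?_
      show ψi (incR (β₁ x)) = _
      rw [hψiR]
      exact AlgHom.congr_fun hωβ x
  let φ : L ≃ₐ[A'] D₁ := AlgEquiv.ofAlgHom ψ ψi
    (Algebra.TensorProduct.ext (Subsingleton.elim _ _) (AlgHom.ext fun c => by
      show ψ (ψi (incR c)) = incR c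
      rw [hψiR]
      exact AlgHom.congr_fun hψω c))
    (AlgHom.coe_ringHom_injective (IsLocalization.ringHom_ext
      (Submonoid.powers (algebraMap A C' (algebraMap R A f))) (RingHom.ext fun c => by
        show ψi (ψ (toL c)) = toL c
        rw [hψ]
        exact AlgHom.congr_fun hψiγ c)))
  have h₁A : IsUnit (algebraMap A C₁ (algebraMap R A f)) := by
    rw [← IsScalarTower.algebraMap_apply]
    exact h₁
  obtain ⟨C, _, _, hC, ε₁, ε', hε⟩ := EtGlueLib.exists_algebra hp C₁ h₁A C' φ
  letI : Algebra R C := ((algebraMap A C).comp (algebraMap R A)).toAlgebra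
  haveI : IsScalarTower R A C := IsScalarTower.of_algebraMap_eq fun _ => rfl
  letI : Algebra C (A' ⊗[A] C) := Algebra.TensorProduct.rightAlgebra
  have hpC : IsGlueingPair C (A' ⊗[A] C) (algebraMap A C (algebraMap R A f)) := EtGlueLib.pair_of_glueable hp C hC
  let Cf := Localization.Away (algebraMap A C (algebraMap R A f))
  let N := Localization.Away (algebraMap C (A' ⊗[A] C) (algebraMap A C (algebraMap R A f)))
  let toN : A' ⊗[A] C →+* N := algebraMap _ _
  let E₀ : A' ⊗[A] C →+* L := (algebraMap C' L).comp ε'.toAlgHom.toRingHom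
  have hfN : ε' (algebraMap C (A' ⊗[A] C) (algebraMap A C (algebraMap R A f))) =
      algebraMap A C' (algebraMap R A f) := by
    show ε' ((1 : A') ⊗ₜ[A] algebraMap A C (algebraMap R A f)) = _
    show ε' ((Algebra.TensorProduct.includeRight : C →ₐ[A] A' ⊗[A] C) (algebraMap A C (algebraMap R A f))) = _
    rw [AlgHom.commutes, IsScalarTower.algebraMap_apply A A' (A' ⊗[A] C), AlgEquiv.commutes,
      ← IsScalarTower.algebraMap_apply]
  have hE₀u : IsUnit (E₀ (algebraMap C (A' ⊗[A] C) (algebraMap A C (algebraMap R A f)))) := by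
    show IsUnit (algebraMap C' L (ε' _))
    rw [hfN]
    exact IsLocalization.Away.algebraMap_isUnit _
  let E : N →+* L := IsLocalization.Away.lift (S := N) _ hE₀u
  have hEinj : Function.Injective E := by
    refine (injective_iff_map_eq_zero _).2 fun n hn => ?_
    obtain ⟨⟨x, ⟨_, k, rfl⟩⟩, hx⟩ :=
      IsLocalization.surj (Submonoid.powers (algebraMap C (A' ⊗[A] C) (algebraMap A C (algebraMap R A f)))) n
    have h0 : E₀ x = 0 := by
      rw [← IsLocalization.Away.lift_eq (S := N) _ hE₀u x, ← hx, map_mul]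
      show E n * _ = 0
      rw [hn, zero_mul]
    obtain ⟨⟨_, m, rfl⟩, hm⟩ := (IsLocalization.map_eq_zero_iff
      (Submonoid.powers (algebraMap A C' (algebraMap R A f))) L (ε' x)).1 h0
    have hx0 : algebraMap (A' ⊗[A] C) N x = 0 := by
      refine (IsLocalization.map_eq_zero_iff
        (Submonoid.powers (algebraMap C (A' ⊗[A] C) (algebraMap A C (algebraMap R A f)))) N x).2
        ⟨⟨(algebraMap C (A' ⊗[A] C) (algebraMap A C (algebraMap R A f))) ^ m, ⟨m, rfl⟩⟩, ε'.injective ?_⟩
      rw [map_zero, map_mul, map_pow, hfN]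
      exact hm
    rw [hx0] at hx
    exact ((IsLocalization.map_units N (⟨_, k, rfl⟩ : Submonoid.powers (algebraMap C (A' ⊗[A] C)
      (algebraMap A C (algebraMap R A f))))).mul_left_eq_zero).1 hx
  have hEC : ∀ y : Cf, φ (E (Localization.awayMap (algebraMap C (A' ⊗[A] C)) _ y)) = incR (ε₁ y) := fun y => by
    refine RingHom.congr_fun (IsLocalization.ringHom_ext
      (Submonoid.powers (algebraMap A C (algebraMap R A f)))
      (j := φ.toAlgHom.toRingHom.comp (E.comp (Localization.awayMap (algebraMap C (A' ⊗[A] C)) _)))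
      (k := incR.toRingHom.comp ε₁.toAlgHom.toRingHom) (RingHom.ext fun c => ?_)) y
    show φ (E (Localization.awayMap (algebraMap C (A' ⊗[A] C)) _ (algebraMap C Cf c))) = incR (ε₁ (algebraMap C Cf c))
    rw [EtGlueLib.awayMap_algebraMap]
    show φ (IsLocalization.Away.lift (S := N) _ hE₀u _) = _
    rw [IsLocalization.Away.lift_eq]
    exact hε c
  have hexB : ∀ x : B, ∃ c : C, ε' ((1 : A') ⊗ₜ[A] c) = β' x ∧ ε₁ (algebraMap C Cf c) = β₁ x := fun x => by
    obtain ⟨c, hc₁, hc₂⟩ := hpC.2.2.1 (ε'.symm (β' x)) (ε₁.symm (β₁ x)) (by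
      refine hEinj (φ.injective ?_)
      rw [hEC, AlgEquiv.apply_symm_apply]
      show φ (IsLocalization.Away.lift (S := N) _ hE₀u _) = _
      rw [IsLocalization.Away.lift_eq]
      show ψ (toL (ε' (ε'.symm (β' x)))) = _
      rw [AlgEquiv.apply_symm_apply, hψ]
      exact AlgHom.congr_fun hγβ x)
    exact ⟨c, (congrArg ε' hc₁).trans (ε'.apply_symm_apply _), (congrArg ε₁ hc₂).trans (ε₁.apply_symm_apply _)⟩
  choose β hβ' hβ₁ using hexB
  have hextC : ∀ c c' : C, ε' ((1 : A') ⊗ₜ[A] c) = ε' ((1 : A') ⊗ₜ[A] c') →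
      ε₁ (algebraMap C Cf c) = ε₁ (algebraMap C Cf c') → c = c' :=
    fun c c' e e₀ => hpC.2.1 (Prod.ext (ε'.injective e) (ε₁.injective e₀))
  let βC : B →ₐ[R] C :=
    { toFun := β
      map_one' := hextC _ _ (by rw [hβ', map_one, ← Algebra.TensorProduct.one_def, map_one])
        (by rw [hβ₁, map_one, map_one, map_one])
      map_mul' := fun x y => hextC _ _
        (by rw [hβ', map_mul, ← hβ', ← hβ', ← map_mul, Algebra.TensorProduct.tmul_mul_tmul, one_mul])
        (by rw [hβ₁, map_mul, map_mul, map_mul, hβ₁, hβ₁])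
      map_zero' := hextC _ _ (by rw [hβ', map_zero, TensorProduct.tmul_zero, map_zero])
        (by rw [hβ₁, map_zero, map_zero, map_zero])
      map_add' := fun x y => hextC _ _
        (by rw [hβ', map_add, TensorProduct.tmul_add, map_add, hβ', hβ'])
        (by rw [hβ₁, map_add, map_add, map_add, hβ₁, hβ₁])
      commutes' := fun r => hextC _ _
        (by
          rw [hβ', β'.commutes, IsScalarTower.algebraMap_apply R A C' r]
          show _ = ε' ((Algebra.TensorProduct.includeRight : C →ₐ[A] A' ⊗[A] C) (algebraMap A C (algebraMap R A r)))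
          rw [AlgHom.commutes, IsScalarTower.algebraMap_apply A A' (A' ⊗[A] C), ε'.commutes,
            ← IsScalarTower.algebraMap_apply A A' C', ← IsScalarTower.algebraMap_apply R A C'])
        (by
          rw [hβ₁, β₁.commutes, IsScalarTower.algebraMap_apply R A C₁ r]
          show _ = ε₁ (algebraMap C Cf (algebraMap A C (algebraMap R A r)))
          rw [← IsScalarTower.algebraMap_apply A C Cf, ε₁.commutes]) }
  let α : A →ₐ[R] C := IsScalarTower.toAlgHom R A C
  refine ⟨C, _, _, α, βC, ?_, ?_, fun D _ _ δ μ₁ hμ => ?_, fun D _ _ δ μ₂ hμ => ?_⟩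
  · -- etaleness
    show (algebraMap A C).Etale
    rw [RingHom.etale_algebraMap]
    haveI hE' : Algebra.Etale A' C' := (RingHom.etale_algebraMap (R := A') (S := C')).1 hα'
    haveI : Algebra.Etale A' (A' ⊗[A] C) := Algebra.Etale.of_equiv ε'.symm
    letI : Algebra Af C₁ := α₁.toRingHom.toAlgebra
    haveI : IsScalarTower A Af C₁ := IsScalarTower.of_algebraMap_eq fun _ => rfl
    haveI hE₁ : Algebra.Etale Af C₁ := (RingHom.etale_algebraMap (R := Af) (S := C₁)).1 hα₁
    obtain ⟨e₀⟩ := EtGlueLib.equiv_away A C (algebraMap R A f)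
    letI : Algebra Af Cf := (Localization.awayMap (algebraMap A C) (algebraMap R A f)).toAlgebra
    let e₁f : C₁ ≃ₐ[Af] Cf :=
      AlgEquiv.ofRingEquiv (f := ε₁.symm.toRingEquiv) fun x => by
        refine RingHom.congr_fun (IsLocalization.ringHom_ext (Submonoid.powers (algebraMap R A f))
          (j := ε₁.symm.toAlgHom.toRingHom.comp (algebraMap Af C₁)) (k := algebraMap Af Cf)
          (RingHom.ext fun a => ?_)) x
        show ε₁.symm (algebraMap A C₁ a) = Localization.awayMap (algebraMap A C) _ (algebraMap A Af a)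
        rw [EtGlueLib.awayMap_algebraMap, AlgEquiv.commutes]
        exact IsScalarTower.algebraMap_apply A C _ a
    haveI : Algebra.Etale Af Cf := Algebra.Etale.of_equiv e₁f
    haveI : Algebra.Etale Af (Af ⊗[A] C) := Algebra.Etale.of_equiv e₀.symm
    exact EtGlueLib.etale hp C
  · rcases hq with ⟨p, rfl, hp'⟩ | ⟨p, rfl, hp'⟩
    · obtain ⟨c, rfl⟩ := hs₁ p hp'
      refine ⟨PrimeSpectrum.comap (ε₁.toAlgHom.toRingHom.comp (algebraMap C Cf)) c, ?_⟩
      rw [← PrimeSpectrum.comap_comp_apply, ← PrimeSpectrum.comap_comp_apply]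
      congr 1
      refine RingHom.ext fun a => ?_
      show ε₁ (algebraMap C Cf (algebraMap A C a)) = _
      rw [← IsScalarTower.algebraMap_apply A C Cf, ε₁.commutes]
      rfl
    · obtain ⟨c, rfl⟩ := hs' p hp'
      refine ⟨PrimeSpectrum.comap (ε'.toAlgHom.toRingHom.comp
        (Algebra.TensorProduct.includeRight : C →ₐ[A] A' ⊗[A] C).toRingHom) c, ?_⟩
      rw [← PrimeSpectrum.comap_comp_apply, ← PrimeSpectrum.comap_comp_apply]
      congr 1
      refine RingHom.ext fun a => ?_
      show ε' ((Algebra.TensorProduct.includeRight : C →ₐ[A] A' ⊗[A] C) (algebraMap A C a)) = _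
      rw [AlgHom.commutes, IsScalarTower.algebraMap_apply A A' (A' ⊗[A] C), ε'.commutes]
      rfl
  · have hu : IsUnit (δ.toRingHom (algebraMap A C (algebraMap R A f))) := by
      show IsUnit (δ (α (algebraMap R A f)))
      rw [α.commutes, δ.commutes]
      exact isUnit_of_hom μ₁ isUnit_away
    let δf : Cf →+* D := IsLocalization.Away.lift (S := Cf) _ hu
    let δ₁ : C₁ →ₐ[R] D :=
      { δf.comp ε₁.symm.toAlgHom.toRingHom with
        commutes' := fun r => by
          show δf (ε₁.symm (algebraMap R C₁ r)) = _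
          rw [IsScalarTower.algebraMap_apply R A C₁, ε₁.symm.commutes, IsScalarTower.algebraMap_apply A C Cf]
          show IsLocalization.Away.lift (S := Cf) _ hu _ = _
          rw [IsLocalization.Away.lift_eq]
          exact (δ.comp α).commutes r }
    have hb' : δ₁.comp β₁ = δ.comp βC := AlgHom.ext fun x => by
      show δf (ε₁.symm (β₁ x)) = δ (β x)
      rw [← hβ₁, ε₁.symm_apply_apply]
      exact IsLocalization.Away.lift_eq _ hu _
    have ha' : δ₁.comp α₁ = μ₁ := awayHom_ext (by
      rw [hμ]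
      refine AlgHom.ext fun a => ?_
      show δf (ε₁.symm (algebraMap A C₁ a)) = δ (algebraMap A C a)
      rw [ε₁.symm.commutes, IsScalarTower.algebraMap_apply A C Cf]
      exact IsLocalization.Away.lift_eq _ hu _)
    rw [← hb', ← ha', ← yon_sa_comp, ← yon_sa_comp, e₁]
  · letI : Algebra A D := (δ.comp α).toRingHom.toAlgebra
    haveI : IsScalarTower R A D := IsScalarTower.of_algebraMap_eq fun r => ((δ.comp α).commutes r).symm
    let δA : C →ₐ[A] D := { δ.toRingHom with commutes' := fun a => rfl }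
    let μA : A' →ₐ[A] D := { μ₂.toRingHom with commutes' := fun a => AlgHom.congr_fun hμ a }
    let T : A' ⊗[A] C →ₐ[A] D := Algebra.TensorProduct.lift μA δA fun _ _ => Commute.all _ _
    let δ' : C' →ₐ[R] D := (T.comp (ε'.symm.toAlgHom.restrictScalars A)).restrictScalars R
    have hb' : δ'.comp β' = δ.comp βC := AlgHom.ext fun x => by
      show T (ε'.symm (β' x)) = δ (β x)
      rw [← hβ', ε'.symm_apply_apply]
      show Algebra.TensorProduct.lift _ _ _ _ = _
      rw [Algebra.TensorProduct.lift_tmul, map_one, one_mul]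
      rfl
    have ha' : δ'.comp α' = μ₂ := AlgHom.ext fun a => by
      show T (ε'.symm (algebraMap A' C' a)) = μ₂ a
      rw [ε'.symm.commutes]
      show Algebra.TensorProduct.lift _ _ _ (a ⊗ₜ[A] (1 : C)) = _
      rw [Algebra.TensorProduct.lift_tmul, map_one, mul_one]
      rfl
    rw [← hb', ← ha', ← yon_sa_comp, ← yon_sa_comp, e']

end Groth.Agent.EtGlueSp
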