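import Groth.Agent.EtGlueSp.Basic
import Groth.Agent.SpQS.Basic

/-!
# Morphisms into spaces are determined along a glueing pair
-/

set_option autoImplicit false
set_option linter.style.haveILetI false

universe u

open CategoryTheory CategoryTheory.Limits AlgebraicGeometry TensorProduct

set_option backward.isDefEq.respectTransparency false

namespace Groth.Agent.EtGlueSp

open _root_.AlgSp Groth.Agent.AlgSpLib EtGlue

theorem toSpecΓ_comp_of_hom {X : Scheme.{u}} {C : CommRingCat.{u}} (l : X ⟶ Spec C) :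
    X.toSpecΓ ≫ Spec.map ((Scheme.ΓSpecIso C).inv ≫ l.appTop) = l := by
  rw [Spec.map_comp, ← Scheme.toSpecΓ_naturality_assoc, ← SpecMap_ΓSpecIso_hom, ← Spec.map_comp,
    Iso.inv_hom_id, Spec.map_id, Category.comp_id]

theorem comp_toSpecΓ_of_hom {W : Scheme.{u}} {C : CommRingCat.{u}} (l : Spec C ⟶ W) :
    l ≫ W.toSpecΓ = Spec.map (l.appTop ≫ (Scheme.ΓSpecIso C).hom) := by
  rw [Spec.map_comp, SpecMap_ΓSpecIso_hom, ← Scheme.toSpecΓ_naturality]

/-- a monomorphism of finite type onto a glueable affine with sections over both pieces has a section -/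
theorem exists_section {R R' A : Type u} [CommRing R] [CommRing R'] [Algebra R R'] [CommRing A] [Algebra R A] {f : R}
    (h : IsGlueingPair R R' f) (hA : IsGlueable R R' f A) {W : Scheme.{u}} (j : W ⟶ Spec (CommRingCat.of A))
    [Mono j] [LocallyQuasiFinite j] [LocallyOfFiniteType j]
    (l₁ : Spec (CommRingCat.of (Localization.Away (algebraMap R A f))) ⟶ W)
    (hl₁ : l₁ ≫ j = Spec.map (CommRingCat.ofHom (algebraMap A (Localization.Away (algebraMap R A f)))))
    (l₂ : Spec (CommRingCat.of (R' ⊗[R] A)) ⟶ W)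
    (hl₂ : l₂ ≫ j = Spec.map (CommRingCat.ofHom
      (Algebra.TensorProduct.includeRight (R := R) (A := R') (B := A)).toRingHom)) :
    ∃ s : Spec (CommRingCat.of A) ⟶ W, s ≫ j = 𝟙 _ := by
  letI : Algebra A (R' ⊗[R] A) := Algebra.TensorProduct.rightAlgebra
  have hp : IsGlueingPair A (R' ⊗[R] A) (algebraMap R A f) := EtGlueLib.pair_of_glueable h A hA
  have hinj : Function.Injective j := j.injective
  -- quasi-compactness
  have : CompactSpace W := by
    refine ⟨?_⟩
    rw [show (Set.univ : Set W) = Set.range l₁ ∪ Set.range l₂ from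
      (Set.eq_univ_of_forall fun w => ?_).symm]
    · exact (isCompact_range l₁.continuous).union (isCompact_range l₂.continuous)
    · rcases subsingleton_or h hA (j w) with ⟨p, hp'⟩ | ⟨p, hp'⟩
      · refine Or.inl ⟨p, hinj ?_⟩
        rw [← Scheme.Hom.comp_apply, hl₁]
        exact hp'
      · refine Or.inr ⟨p, hinj ?_⟩
        rw [← Scheme.Hom.comp_apply, hl₂]
        exact hp'
  have : QuasiCompact j := by
    rw [quasiCompact_iff_compactSpace]
    infer_instance
  have hqa := QA.of_locallyQuasiFinite j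
  have : Scheme.IsQuasiAffine (j ⁻¹ᵁ ⊤ : W.Opens).toScheme := hqa.2 ⊤ (isAffineOpen_top _)
  have : W.IsQuasiAffine := Scheme.IsQuasiAffine.of_isImmersion (Y := (j ⁻¹ᵁ ⊤ : W.Opens).toScheme) W.topIso.inv
  -- the functions
  let C₁ := CommRingCat.of (Localization.Away (algebraMap R A f))
  let C₂ := CommRingCat.of (R' ⊗[R] A)
  let β : CommRingCat.of A ⟶ Γ(W, ⊤) := (Scheme.ΓSpecIso _).inv ≫ j.appTop
  let β₁ : Γ(W, ⊤) ⟶ C₁ := l₁.appTop ≫ (Scheme.ΓSpecIso _).hom
  let β₂ : Γ(W, ⊤) ⟶ C₂ := l₂.appTop ≫ (Scheme.ΓSpecIso _).hom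
  have hj : W.toSpecΓ ≫ Spec.map β = j := toSpecΓ_comp_of_hom j
  have hb₁ : l₁ ≫ W.toSpecΓ = Spec.map β₁ := comp_toSpecΓ_of_hom l₁
  have hb₂ : l₂ ≫ W.toSpecΓ = Spec.map β₂ := comp_toSpecΓ_of_hom l₂
  have h1 : β ≫ β₁ = CommRingCat.ofHom (algebraMap A (Localization.Away (algebraMap R A f))) := by
    refine Spec.map_injective ?_
    rw [Spec.map_comp, ← hb₁, Category.assoc, hj, hl₁]
  have h2 : β ≫ β₂ = CommRingCat.ofHom (algebraMap A (R' ⊗[R] A)) := by
    refine Spec.map_injective ?_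
    rw [Spec.map_comp, ← hb₂, Category.assoc, hj, hl₂]
    rfl
  let C₁₂ := CommRingCat.of (Localization.Away (algebraMap A (R' ⊗[R] A) (algebraMap R A f)))
  let μ₁ : C₁ ⟶ C₁₂ :=
    CommRingCat.ofHom (Localization.awayMap (algebraMap A (R' ⊗[R] A)) (algebraMap R A f))
  let μ₂ : C₂ ⟶ C₁₂ := CommRingCat.ofHom (algebraMap (R' ⊗[R] A) _)
  have hμ : β₁ ≫ μ₁ = β₂ ≫ μ₂ := by
    have e : Spec.map μ₁ ≫ l₁ = Spec.map μ₂ ≫ l₂ := by
      rw [← cancel_mono j, Category.assoc, Category.assoc, hl₁, hl₂, ← Spec.map_comp, ← Spec.map_comp]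
      congr 1
      exact CommRingCat.hom_ext (RingHom.ext fun a => EtGlueLib.awayMap_algebraMap a)
    refine Spec.map_injective ?_
    rw [Spec.map_comp β₁ μ₁, Spec.map_comp β₂ μ₂, ← hb₁, ← hb₂, reassoc_of% e]
  have hex : ∀ x : Γ(W, ⊤), ∃ a : A, algebraMap A (R' ⊗[R] A) a = β₂.hom x ∧
      algebraMap A (Localization.Away (algebraMap R A f)) a = β₁.hom x := fun x =>
    hp.2.2.1 _ _ (congr($(congrArg CommRingCat.Hom.hom hμ) x)).symm
  choose r hr₂ hr₁ using hex
  have hext : ∀ a b : A, algebraMap A (R' ⊗[R] A) a = algebraMap A (R' ⊗[R] A) b →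
      algebraMap A (Localization.Away (algebraMap R A f)) a =
        algebraMap A (Localization.Away (algebraMap R A f)) b → a = b :=
    fun a b e e' => hp.2.1 (Prod.ext e e')
  let rho : Γ(W, ⊤) ⟶ CommRingCat.of A := CommRingCat.ofHom
    { toFun := r
      map_one' := hext _ _ (by rw [hr₂, map_one, map_one]) (by rw [hr₁, map_one, map_one])
      map_mul' := fun x y => hext _ _ (by rw [hr₂, map_mul, map_mul, hr₂, hr₂])
        (by rw [hr₁, map_mul, map_mul, hr₁, hr₁])
      map_zero' := hext _ _ (by rw [hr₂, map_zero, map_zero]) (by rw [hr₁, map_zero, map_zero])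
      map_add' := fun x y => hext _ _ (by rw [hr₂, map_add, map_add, hr₂, hr₂])
        (by rw [hr₁, map_add, map_add, hr₁, hr₁]) }
  have hr : β ≫ rho = 𝟙 _ := CommRingCat.hom_ext (RingHom.ext fun a => hext _ _
    ((hr₂ _).trans congr($(congrArg CommRingCat.Hom.hom h2) a))
    ((hr₁ _).trans congr($(congrArg CommRingCat.Hom.hom h1) a)))
  have hrange : Set.range (Spec.map rho) ⊆ Set.range W.toSpecΓ := by
    rintro _ ⟨q, rfl⟩
    rcases subsingleton_or h hA q with ⟨p, rfl⟩ | ⟨p, rfl⟩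
    · refine ⟨l₁ p, ?_⟩
      rw [← Scheme.Hom.comp_apply, hb₁]
      have : rho ≫ CommRingCat.ofHom (algebraMap A (Localization.Away (algebraMap R A f))) = β₁ :=
        CommRingCat.hom_ext (RingHom.ext hr₁)
      rw [← this, Spec.map_comp, Scheme.Hom.comp_apply]
      rfl
    · refine ⟨l₂ p, ?_⟩
      rw [← Scheme.Hom.comp_apply, hb₂]
      have : rho ≫ CommRingCat.ofHom (algebraMap A (R' ⊗[R] A)) = β₂ :=
        CommRingCat.hom_ext (RingHom.ext hr₂)
      rw [← this, Spec.map_comp, Scheme.Hom.comp_apply]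
      rfl
  refine ⟨IsOpenImmersion.lift W.toSpecΓ (Spec.map rho) hrange, ?_⟩
  conv_lhs => rw [← hj]
  rw [IsOpenImmersion.lift_fac_assoc, ← Spec.map_comp, hr, Spec.map_id]

variable {R : Type u} [CommRing R] {R' : Type u} [CommRing R'] [Algebra R R'] {f : R}

/-- two points with values in a glueable algebra are equal if they are so on both pieces -/
theorem eq_on_affine (h : IsGlueingPair R R' f) {Z : Sp (Spec (CommRingCat.of R))} (hZ : IsAlgSpace Z)
    {A : Type u} [CommRing A] [Algebra R A] (hA : IsGlueable R R' f A)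
    (x y : (yon _).obj (SA (R := R) A) ⟶ Z)
    (h₁ : ∀ (k : SA (R := R) (Localization.Away (algebraMap R A f)) ⟶ SA A),
      k.left = Spec.map (CommRingCat.ofHom (algebraMap A (Localization.Away (algebraMap R A f)))) →
        (yon _).map k ≫ x = (yon _).map k ≫ y)
    (h₂ : ∀ (k : SA (R := R) (R' ⊗[R] A) ⟶ SA A),
      k.left = Spec.map (CommRingCat.ofHom (Algebra.TensorProduct.includeRight (R := R) (A := R') (B := A)).toRingHom) →
        (yon _).map k ≫ x = (yon _).map k ≫ y) : x = y := by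
  obtain ⟨W, fst, snd, sqW⟩ := exists_isPullback_of_representable hZ.diag (prod.lift x y)
  have hm : Mono snd.left := (repWith_diag_mono hZ).2 _ fst snd sqW
  have hl := (repWith_diag_lqf hZ).2 _ fst snd sqW
  have : LocallyQuasiFinite snd.left := hl.1
  have : LocallyOfFiniteType snd.left := hl.2
  have hfac : ∀ {T : Over (Spec (CommRingCat.of R))} (k : T ⟶ SA A), (yon _).map k ≫ x = (yon _).map k ≫ y →
      ∃ l : T ⟶ W, l ≫ snd = k := by
    intro T k e
    obtain ⟨l, hl'⟩ := exists_map_eq (sqW.lift ((yon _).map k ≫ x) ((yon _).map k) (by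
      apply prod.hom_ext
      · simp [Limits.diag]
      · simp only [Limits.diag, Category.assoc, prod.lift_snd, Category.comp_id]
        exact e))
    exact ⟨l, (yon _).map_injective (by rw [Functor.map_comp, hl', sqW.lift_snd])⟩
  let A₁ := Localization.Away (algebraMap R A f)
  let k₁ : SA (R := R) A₁ ⟶ SA A := Over.homMk (Spec.map (CommRingCat.ofHom (algebraMap A A₁))) (by
    show Spec.map _ ≫ Spec.map _ = Spec.map _
    rw [← Spec.map_comp, ← CommRingCat.ofHom_comp, ← IsScalarTower.algebraMap_eq])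
  obtain ⟨l₁, hl₁⟩ := hfac k₁ (h₁ k₁ rfl)
  let k₂ : SA (R := R) (R' ⊗[R] A) ⟶ SA A := Over.homMk (Spec.map (CommRingCat.ofHom
      (Algebra.TensorProduct.includeRight (R := R) (A := R') (B := A)).toRingHom)) (by
    show Spec.map _ ≫ Spec.map _ = Spec.map _
    rw [← Spec.map_comp, ← CommRingCat.ofHom_comp]
    congr 2
    exact (Algebra.TensorProduct.includeRight (R := R) (A := R') (B := A)).comp_algebraMap)
  obtain ⟨l₂, hl₂⟩ := hfac k₂ (h₂ k₂ rfl)
  obtain ⟨s, hs⟩ := exists_section h hA snd.left l₁.left (congrArg (fun g => g.left) hl₁)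
    l₂.left (congrArg (fun g => g.left) hl₂)
  let s' : SA (R := R) A ⟶ W := Over.homMk s (by
    rw [← Over.w snd, reassoc_of% hs])
  have hs' : s' ≫ snd = 𝟙 _ := Over.OverMorphism.ext hs
  have e := (yon _).map s' ≫= sqW.w
  rw [← Functor.map_comp_assoc, hs', CategoryTheory.Functor.map_id, Category.id_comp] at e
  have ea := e =≫ prod.fst
  have eb := e =≫ prod.snd
  simp [Limits.diag] at ea eb
  rw [← ea, eb]

/-- morphisms are determined by their restrictions to the two pieces -/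
theorem eq_of_eq_baseChange (h : IsGlueingPair R R' f) {Y Z YU YX' : Sp (Spec (CommRingCat.of R))}
    (hY : IsAlgSpace Y) (hZ : IsAlgSpace Z)
    (hgl : ∀ (A : Type u) [CommRing A] [Algebra R A] (g : (yon _).obj (SA (R := R) A) ⟶ Y), RepWith @Etale g →
      IsGlueable R R' f A)
    (a b : Y ⟶ Z) (πY : Y ⟶ (yon _).obj (Over.mk (𝟙 _)))
    (inU : SA (R := R) (Localization.Away f) ⟶ Over.mk (𝟙 _))
    (uY : YU ⟶ Y) (vY : YU ⟶ (yon _).obj (SA (R := R) (Localization.Away f)))
    (hYU : IsPullback uY vY πY ((yon _).map inU))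
    (inX' : SA (R := R) R' ⟶ Over.mk (𝟙 _))
    (uY' : YX' ⟶ Y) (vY' : YX' ⟶ (yon _).obj (SA (R := R) R'))
    (hYX' : IsPullback uY' vY' πY ((yon _).map inX'))
    (haU : uY ≫ a = uY ≫ b) (haX' : uY' ≫ a = uY' ≫ b) : a = b := by
  refine hom_ext_affine hY fun A _ _ g hg => eq_on_affine h hZ (hgl A g hg) _ _ (fun k _ => ?_) (fun k _ => ?_)
  · let m₁ : SA (R := R) (Localization.Away (algebraMap R A f)) ⟶ SA (Localization.Away f) :=
      Over.homMk (Spec.map (CommRingCat.ofHom (IsLocalization.Away.lift (S := Localization.Away f) f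
        (g := algebraMap R (Localization.Away (algebraMap R A f))) (by
          rw [IsScalarTower.algebraMap_apply R A (Localization.Away (algebraMap R A f))]
          exact IsLocalization.Away.algebraMap_isUnit _)))) (by
      show Spec.map _ ≫ Spec.map _ = Spec.map _
      rw [← Spec.map_comp, ← CommRingCat.ofHom_comp, IsLocalization.Away.lift_comp])
    have e := hYU.lift_fst ((yon _).map k ≫ g) ((yon _).map m₁) (SpQS.isTerminalBase.hom_ext _ _)
    rw [← Category.assoc, ← e, Category.assoc, haU, ← Category.assoc, e, Category.assoc]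
  · let m₂ : SA (R := R) (R' ⊗[R] A) ⟶ SA R' :=
      Over.homMk (Spec.map (CommRingCat.ofHom (algebraMap R' (R' ⊗[R] A)))) (by
      show Spec.map _ ≫ Spec.map _ = Spec.map _
      rw [← Spec.map_comp, ← CommRingCat.ofHom_comp, ← IsScalarTower.algebraMap_eq])
    have e := hYX'.lift_fst ((yon _).map k ≫ g) ((yon _).map m₂) (SpQS.isTerminalBase.hom_ext _ _)
    rw [← Category.assoc, ← e, Category.assoc, haX', ← Category.assoc, e, Category.assoc]

/-- a glueable space has a glueable affine etale cover -/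
theorem exists_glueable_cover {Y : Sp (Spec (CommRingCat.of R))} (hY : IsAlgSpace Y)
    (H : ∀ (A : Type u) [CommRing A] [Algebra R A] (g : (yon _).obj (SA (R := R) A) ⟶ Y), RepWith @Etale g →
      IsGlueable R R' f A) :
    ∃ (ι : Type u) (A : ι → Type u) (_ : ∀ k, CommRing (A k)) (_ : ∀ k, Algebra R (A k))
        (g : ∀ k, (yon _).obj (SA (R := R) (A k)) ⟶ Y),
        (∀ k, RepWith @Etale (g k)) ∧ (∀ y : Points Y, ∃ k, y ∈ Set.range (Points.map (g k))) ∧
          ∀ k, IsGlueable R R' f (A k) := by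
  obtain ⟨U, p, ι, Z', hp, hps, hZ, -, hcov⟩ := exists_affine_chart_family hY
  have hx : ∀ i, ∃ (B : Type u) (_ : CommRing B) (_ : Algebra R B),
      Nonempty (SA (R := R) B ≅ Over.mk ((Z' i).ι ≫ U.hom)) := fun i => by
    have : IsAffine (Over.mk ((Z' i).ι ≫ U.hom)).left := hZ i
    exact exists_spec_iso _
  choose B i₁ i₂ θ using hx
  let g : ∀ i, (yon _).obj (SA (R := R) (B i)) ⟶ Y := fun i =>
    (yon _).map ((θ i).some.hom ≫ (Over.homMk (Z' i).ι rfl : Over.mk ((Z' i).ι ≫ U.hom) ⟶ U)) ≫ p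
  have hg : ∀ i, RepWith @Etale (g i) := fun i => repWith_comp ((repWith_yon_iff _).2
    (show Etale ((θ i).some.hom.left ≫ (Z' i).ι) from inferInstance)) hp
  refine ⟨ι, B, i₁, i₂, g, hg, fun y => ?_, fun i => H _ (g i) (hg i)⟩
  obtain ⟨v, rfl⟩ := ofPt_surjective hps y
  obtain ⟨i, hi⟩ := hcov v
  obtain ⟨c, hc⟩ := (θ i).some.hom.left.homeomorph.surjective (⟨v, hi⟩ : (Z' i).toScheme)
  refine ⟨i, Points.ofScheme _ c, ?_⟩
  rw [← Points.ofPt_eq_map_ofScheme, ofPt_comp]
  show Points.ofPt p ((Z' i).ι ((θ i).some.hom.left c)) = _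
  rw [show (θ i).some.hom.left c = (⟨v, hi⟩ : (Z' i).toScheme) from hc]
  rfl

end Groth.Agent.EtGlueSp
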